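import Mathlib
import Cfsg.Agent.H363.Frat

/-!
# Numbers of Sylow subgroups and normal subgroups (helper428)

* `card_sylow_normal` : a normal subgroup of index prime to `p`;
* `card_sylow_quot` : `n_p(G) = |N : N_N(P)| * n_p(G / N)`;
* `exists_frame` : `P` normalizes a Sylow `t`-subgroup of `N`;
* `locate` : the chief factor containing a Sylow `p`-subgroup of order `p`.
-/

set_option autoImplicit false

namespace Cfsg.Agent.H428.SylNorm

open Subgroup Cfsg.Agent.H363.Frat

universe u

section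

variable {G : Type u} [Group G]

theorem sylow_le_normal {p : ℕ} [hp : Fact p.Prime] (M : Subgroup G) [M.Normal] (h : ¬ p ∣ M.index) (P : Sylow p G) :
    (P : Subgroup G) ≤ M := by
  intro x hx
  obtain ⟨k, hk⟩ := (IsPGroup.iff_orderOf.mp P.2) ⟨x, hx⟩
  have h1 : orderOf (x : G ⧸ M) ∣ p ^ k := by
    rw [← hk, ← Subgroup.orderOf_coe]
    exact orderOf_map_dvd (QuotientGroup.mk' M) x
  have h2 : orderOf (x : G ⧸ M) ∣ M.index := by
    rw [Subgroup.index_eq_card]
    exact orderOf_dvd_natCard _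
  have h3 : orderOf (x : G ⧸ M) = 1 := by
    apply Nat.eq_one_of_dvd_coprimes _ h1 h2
    exact Nat.Coprime.pow_left _ ((hp.out.coprime_iff_not_dvd).mpr h)
  rw [orderOf_eq_one_iff] at h3
  exact (QuotientGroup.eq_one_iff x).mp h3

variable [Finite G]

/-- a normal subgroup of index prime to `p` has as many Sylow `p`-subgroups as the group -/
theorem card_sylow_normal {p : ℕ} [Fact p.Prime] (M : Subgroup G) [M.Normal] (h : ¬ p ∣ M.index) :
    Nat.card (Sylow p G) = Nat.card (Sylow p M) := by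
  refine Nat.card_eq_of_bijective (fun P => P.subtype (sylow_le_normal M h P)) ⟨?_, ?_⟩
  · intro P Q hPQ
    exact Sylow.subtype_injective hPQ
  · intro Q
    obtain ⟨P, hP⟩ := Sylow.exists_comap_subtype_eq Q
    refine ⟨P, ?_⟩
    apply Sylow.ext
    rw [Sylow.coe_subtype]
    exact hP

theorem relIndex_sup (H N : Subgroup G) [N.Normal] : H.relIndex (H ⊔ N) = H.relIndex N := by
  have e1 := relIndex_inf_mul_relIndex H N (H ⊔ N)
  have e2 := relIndex_inf_mul_relIndex N H (H ⊔ N)
  rw [inf_eq_left.mpr (le_sup_right : N ≤ H ⊔ N), relIndex_sup_right] at e1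
  rw [inf_eq_left.mpr (le_sup_left : H ≤ H ⊔ N), inf_comm, ← e1, mul_comm] at e2
  exact Nat.eq_of_mul_eq_mul_right (Nat.pos_of_ne_zero (Subgroup.index_ne_zero_of_finite (H := N.subgroupOf H))) e2

/-- **Sylow numbers of a quotient** -/
theorem card_sylow_quot {p : ℕ} [Fact p.Prime] (N : Subgroup G) [N.Normal] (P : Sylow p G) :
    Nat.card (Sylow p G) = (normalizer ((P : Subgroup G) : Set G)).relIndex N * Nat.card (Sylow p (G ⧸ N)) := by
  set π := QuotientGroup.mk' N with hπ
  have hs : Function.Surjective π := QuotientGroup.mk'_surjective N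
  set P' := P.mapSurjective hs with hP'
  have hP'c : (P' : Subgroup (G ⧸ N)) = (P : Subgroup G).map π := Sylow.coe_mapSurjective hs P
  set K : Subgroup G := (normalizer ((P' : Subgroup (G ⧸ N)) : Set (G ⧸ N))).comap π with hK
  have hKi : K.index = Nat.card (Sylow p (G ⧸ N)) := by
    rw [hK, Subgroup.index_comap_of_surjective _ hs]
    exact P'.card_eq_index_normalizer.symm
  have hcomap : ((P : Subgroup G).map π).comap π = (P : Subgroup G) ⊔ N := by
    rw [Subgroup.comap_map_eq, hπ, QuotientGroup.ker_mk']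
  have hle : normalizer ((P : Subgroup G) : Set G) ≤ K := by
    intro g hg
    rw [hK, mem_comap, mem_normalizer_iff]
    intro y
    rw [hP'c]
    constructor
    · rintro ⟨x, hx, rfl⟩
      refine ⟨g * x * g⁻¹, (mem_normalizer_iff.mp hg x).mp hx, by simp⟩
    · rintro ⟨x, hx, hxy⟩
      refine ⟨g⁻¹ * x * g, ?_, ?_⟩
      · rw [SetLike.mem_coe, mem_normalizer_iff.mp hg]
        have : g * (g⁻¹ * x * g) * g⁻¹ = x := by group
        rw [this]
        exact hx
      · rw [map_mul, map_mul, hxy, map_inv]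
        group
  have hK2 : K ≤ normalizer ((P : Subgroup G) : Set G) ⊔ N := by
    intro g hg
    rw [hK, mem_comap] at hg
    have hPH : (P : Subgroup G) ≤ (P : Subgroup G) ⊔ N := le_sup_left
    have hgP : ((g • P : Sylow p G) : Subgroup G) ≤ (P : Subgroup G) ⊔ N := by
      rw [Sylow.coe_subgroup_smul]
      rintro _ ⟨x, hx, rfl⟩
      rw [← hcomap, mem_comap]
      change π (g * x * g⁻¹) ∈ _
      rw [map_mul, map_mul, map_inv, ← hP'c]
      refine (mem_normalizer_iff.mp hg (π x)).mp ?_
      rw [hP'c]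
      exact ⟨x, hx, rfl⟩
    obtain ⟨h, hh⟩ := MulAction.exists_smul_eq ((P : Subgroup G) ⊔ N : Subgroup G) (P.subtype hPH) ((g • P).subtype hgP)
    rw [Sylow.smul_subtype] at hh
    have h1 := Sylow.subtype_injective hh
    have h2 : (h : G)⁻¹ * g ∈ normalizer ((P : Subgroup G) : Set G) := by
      refine Sylow.smul_eq_iff_mem_normalizer.mp ?_
      rw [mul_smul, ← h1]
      exact inv_smul_smul (h : G) P
    have h3 : (h : G) ∈ normalizer ((P : Subgroup G) : Set G) ⊔ N :=
      (sup_le_sup_right (Subgroup.le_normalizer) N) h.2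
    have h4 := mul_mem h3 (mem_sup_left (S := normalizer ((P : Subgroup G) : Set G)) (T := N) h2)
    rwa [mul_inv_cancel_left] at h4
  have hKeq : K = normalizer ((P : Subgroup G) : Set G) ⊔ N := by
    apply le_antisymm hK2
    apply sup_le hle
    intro x hx
    rw [hK, mem_comap, (QuotientGroup.eq_one_iff x).mpr hx |> fun h => (h : π x = 1)]
    exact one_mem _
  have e : Nat.card (Sylow p G) = (normalizer ((P : Subgroup G) : Set G)).index := P.card_eq_index_normalizer
  rw [e, ← relIndex_mul_index hle, hKi, hKeq, relIndex_sup]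

/-- a Sylow `t`-subgroup of `N` in `H`: `t` does not divide `|N : N ∩ H|` -/
theorem not_dvd_relIndex {t : ℕ} (ht : t.Prime) {N S H : Subgroup G} (hSN : S ≤ N)
    (hc : Nat.card S = t ^ (Nat.card N).factorization t) (hSH : S ≤ H) : ¬ t ∣ H.relIndex N := by
  intro hd
  have h1 : (H ⊓ N).relIndex N * Nat.card (H ⊓ N : Subgroup G) = Nat.card N := by
    have := Subgroup.card_mul_index ((H ⊓ N).subgroupOf N)
    rw [mul_comm, ← this]
    congr 1
    exact Nat.card_congr (Subgroup.subgroupOfEquivOfLe inf_le_right).toEquiv.symm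
  rw [inf_relIndex_right] at h1
  have h2 : Nat.card S ∣ Nat.card (H ⊓ N : Subgroup G) := Subgroup.card_dvd_of_le (le_inf hSH hSN)
  rw [hc] at h2
  have h3 : t ^ ((Nat.card N).factorization t + 1) ∣ Nat.card N := by
    rw [pow_succ']
    exact (Nat.mul_dvd_mul hd h2).trans (dvd_of_eq h1)
  have h4 := (ht.pow_dvd_iff_le_factorization Nat.card_pos.ne').mp h3
  omega

/-- the fixed points of a `p`-group on a `t`-group it normalizes -/
theorem fixed_modEq {p t a : ℕ} [hp : Fact p.Prime] (ht : t.Prime) (htp : t ≠ p) {P S : Subgroup G}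
    (hP : IsPGroup p P) (hcard : Nat.card S = t ^ a) (hPS : P ≤ normalizer (S : Set G)) :
    ∃ b, b ≤ a ∧ Nat.card (S ⊓ centralizer (P : Set G) : Subgroup G) = t ^ b ∧ p ∣ t ^ (a - b) - 1 := by
  have hn : ∀ a : P, ∀ v ∈ S, (a : G) * v * (a : G)⁻¹ ∈ S := fun a v hv =>
    (mem_normalizer_iff.mp (hPS a.2) v).mp hv
  let _act : MulAction P S :=
    { smul := fun a y => ⟨(a : G) * y.1 * (a : G)⁻¹, hn a _ y.2⟩
      one_smul := fun y => by
        apply Subtype.ext
        change ((1 : P) : G) * y.1 * ((1 : P) : G)⁻¹ = y.1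
        simp
      mul_smul := fun a b y => by
        apply Subtype.ext
        change ((a * b : P) : G) * y.1 * ((a * b : P) : G)⁻¹
          = (a : G) * ((b : G) * y.1 * (b : G)⁻¹) * (a : G)⁻¹
        rw [Subgroup.coe_mul]; group }
  have h1 := hP.card_modEq_card_fixedPoints S
  have h2 : Nat.card (MulAction.fixedPoints P S) = Nat.card (S ⊓ centralizer (P : Set G) : Subgroup G) := by
    apply Nat.card_congr
    refine ⟨fun y => ⟨y.1.1, mem_inf.mpr ⟨y.1.2, ?_⟩⟩, fun y => ⟨⟨y.1, (mem_inf.mp y.2).1⟩, ?_⟩, fun _ => rfl,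
      fun _ => rfl⟩
    · rw [mem_centralizer_iff]
      intro x hx
      have h3 := congrArg Subtype.val (y.2 ⟨x, hx⟩)
      change (x : G) * y.1.1 * (x : G)⁻¹ = y.1.1 at h3
      calc (x : G) * y.1.1 = ((x : G) * y.1.1 * (x : G)⁻¹) * x := by group
        _ = y.1.1 * x := by rw [h3]
    · rintro ⟨x, hx⟩
      apply Subtype.ext
      change x * y.1 * x⁻¹ = y.1
      have h3 : x * y.1 = y.1 * x := mem_centralizer_iff.mp (mem_inf.mp y.2).2 _ hx
      rw [h3]
      group
  rw [h2, hcard] at h1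
  have hFS : Nat.card (S ⊓ centralizer (P : Set G) : Subgroup G) ∣ t ^ a := by
    rw [← hcard]
    exact Subgroup.card_dvd_of_le inf_le_left
  obtain ⟨b, hb, hFb⟩ := (Nat.dvd_prime_pow ht).mp hFS
  refine ⟨b, hb, hFb, ?_⟩
  rw [hFb] at h1
  have h3 : p ∣ t ^ a - t ^ b := (Nat.modEq_iff_dvd' (Nat.pow_le_pow_right ht.pos hb)).mp h1.symm
  have h4 : t ^ a - t ^ b = t ^ b * (t ^ (a - b) - 1) := by
    rw [Nat.mul_sub, mul_one, ← pow_add, Nat.add_sub_cancel' hb]
  rw [h4] at h3
  rcases hp.out.dvd_mul.mp h3 with h5 | h5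
  · exact absurd ((Nat.prime_dvd_prime_iff_eq hp.out ht).mp (hp.out.dvd_of_dvd_pow h5)).symm htp
  · exact h5

/-- **The frame**: a Sylow `p`-subgroup of order `p` normalizing a Sylow `t`-subgroup of `N` -/
theorem exists_frame {p t : ℕ} [hp : Fact p.Prime] (ht : t.Prime) (htp : t ≠ p)
    (h1 : (Nat.card G).factorization p = 1) (N : Subgroup G) [N.Normal] (hpN : p ∣ N.index) :
    ∃ (P : Sylow p G) (S : Subgroup G), S ≤ N ∧ Nat.card S = t ^ (Nat.card N).factorization t ∧
      normalizer (S : Set G) ⊔ N = ⊤ ∧ (P : Subgroup G) ≤ normalizer (S : Set G) := by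
  have : Fact t.Prime := ⟨ht⟩
  let R : Sylow t N := default
  have hSN : (R : Subgroup N).map N.subtype ≤ N := by
    rintro _ ⟨x, _, rfl⟩
    exact x.2
  have hcard : Nat.card ((R : Subgroup N).map N.subtype) = t ^ (Nat.card N).factorization t := by
    rw [Nat.card_congr ((R : Subgroup N).equivMapOfInjective N.subtype
      N.subtype_injective).symm.toEquiv]
    exact R.card_eq_multiplicity
  have hfrat : normalizer (((R : Subgroup N).map N.subtype : Subgroup G) : Set G) ⊔ N = ⊤ :=
    Sylow.normalizer_sup_eq_top R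
  have h2 : N.relIndex (normalizer (((R : Subgroup N).map N.subtype : Subgroup G) : Set G)) = N.index := by
    rw [← relIndex_sup_right, hfrat, relIndex_top_right]
  have h3 := relIndex_dvd_card N (normalizer (((R : Subgroup N).map N.subtype : Subgroup G) : Set G))
  rw [h2] at h3
  obtain ⟨x, hx⟩ := exists_prime_orderOf_dvd_card' p (hpN.trans h3)
  have hx' : orderOf (x : G) = p := by rw [Subgroup.orderOf_coe, hx]
  have hc : Nat.card (zpowers (x : G)) = p ^ (Nat.card G).factorization p := by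
    rw [h1, pow_one, Nat.card_zpowers, hx']
  refine ⟨Sylow.ofCard (zpowers (x : G)) hc, _, hSN, hcard, hfrat, ?_⟩
  rw [Sylow.coe_ofCard, zpowers_le]
  exact x.2

/-- the Sylow numbers have the same `t`-part if no nontrivial action on a Sylow `t`-subgroup is possible -/
theorem factorization_sylow_eq_of {p t : ℕ} [hp : Fact p.Prime] (ht : t.Prime) (N : Subgroup G) [N.Normal]
    (P : Sylow p G) {S : Subgroup G} (hSN : S ≤ N) (hS : Nat.card S = t ^ (Nat.card N).factorization t)
    (hSP : S ≤ centralizer ((P : Subgroup G) : Set G)) :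
    (Nat.card (Sylow p G)).factorization t = (Nat.card (Sylow p (G ⧸ N))).factorization t := by
  rw [card_sylow_quot N P, Nat.factorization_mul ?_ Nat.card_pos.ne', Finsupp.add_apply,
    Nat.factorization_eq_zero_of_not_dvd (not_dvd_relIndex ht hSN hS (hSP.trans (centralizer_le_normalizer _))), zero_add]
  exact Subgroup.index_ne_zero_of_finite

theorem factorization_sylow_eq {p t : ℕ} [hp : Fact p.Prime] (ht : t.Prime) (htp : t ≠ p)
    (h1 : (Nat.card G).factorization p = 1) (N : Subgroup G) [N.Normal] (hpN : p ∣ N.index)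
    (hno : ∀ c, 1 ≤ c → c ≤ (Nat.card N).factorization t → ¬ p ∣ t ^ c - 1) :
    (Nat.card (Sylow p G)).factorization t = (Nat.card (Sylow p (G ⧸ N))).factorization t := by
  obtain ⟨P, S, hSN, hS, -, hPS⟩ := exists_frame ht htp h1 N hpN
  obtain ⟨b, hb, hc, hd⟩ := fixed_modEq ht htp P.2 hS hPS
  have hb' : b = (Nat.card N).factorization t := by
    by_contra hne
    exact hno _ (by omega) (by omega) hd
  refine factorization_sylow_eq_of ht N P hSN hS ?_
  have h2 : S ⊓ centralizer ((P : Subgroup G) : Set G) = S := by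
    apply Subgroup.eq_of_le_of_card_ge inf_le_left
    rw [hc, hS, hb']
  rw [← h2]
  exact inf_le_right

/-- **The chief factor containing a Sylow `p`-subgroup of order `p`** -/
theorem locate {p : ℕ} (hp : p.Prime) (h1 : (Nat.card G).factorization p = 1) :
    ∃ (N : Subgroup G) (_ : N.Normal) (M : Subgroup (G ⧸ N)), M.Normal ∧ IsSimpleGroup M ∧ p ∣ Nat.card M ∧
      ¬ p ∣ Nat.card N ∧ ((¬ ∀ a b : M, a * b = b * a) → centralizer (M : Set (G ⧸ N)) = ⊥) := by
  have hpG : p ∣ Nat.card G := by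
    rw [hp.dvd_iff_one_le_factorization Nat.card_pos.ne', h1]
  obtain ⟨N, ⟨hNn, hNp⟩, hNmax⟩ : ∃ N : Subgroup G, (N.Normal ∧ ¬ p ∣ Nat.card N) ∧
      ∀ L : Subgroup G, (L.Normal ∧ ¬ p ∣ Nat.card L) → N ≤ L → L = N := by
    have hfin : {L : Subgroup G | L.Normal ∧ ¬ p ∣ Nat.card L}.Finite := Set.toFinite _
    obtain ⟨N, hN⟩ := hfin.exists_maximal ⟨⊥, Subgroup.normal_bot, by
      rw [Subgroup.card_bot]; exact fun h => hp.one_lt.ne' (Nat.dvd_one.mp h)⟩
    exact ⟨N, hN.1, fun L hL hNL => le_antisymm (hN.2 hL hNL) hNL⟩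
  have hpidx : p ∣ N.index := by
    have h1 := N.card_mul_index
    rw [← h1] at hpG
    rcases hp.dvd_mul.mp hpG with h | h
    · exact absurd h hNp
    · exact h
  have card_eq : ∀ M : Subgroup (G ⧸ N), Nat.card G = Nat.card N * (Nat.card M * M.index) := by
    intro M
    rw [M.card_mul_index, ← Subgroup.index_eq_card, N.card_mul_index]
  have hquot : ∀ M : Subgroup (G ⧸ N), M.Normal → M ≠ ⊥ → p ∣ Nat.card M := by
    intro M hMn hM0
    have hHn : (M.comap (QuotientGroup.mk' N)).Normal := hMn.comap _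
    have hNH : N ≤ M.comap (QuotientGroup.mk' N) := by
      intro x hx
      rw [mem_comap]
      have : QuotientGroup.mk' N x = 1 := (QuotientGroup.eq_one_iff x).mpr hx
      rw [this]
      exact one_mem _
    have hHN : M.comap (QuotientGroup.mk' N) ≠ N := by
      intro h
      apply hM0
      rw [eq_bot_iff]
      intro y hy
      obtain ⟨x, rfl⟩ := QuotientGroup.mk'_surjective N y
      have : x ∈ M.comap (QuotientGroup.mk' N) := hy
      rw [h] at this
      exact Subgroup.mem_bot.mpr ((QuotientGroup.eq_one_iff x).mpr this)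
    have hpH : p ∣ Nat.card (M.comap (QuotientGroup.mk' N)) := by
      by_contra h
      exact hHN (hNmax _ ⟨hHn, h⟩ hNH)
    have h1 : Nat.card (M.comap (QuotientGroup.mk' N)) = Nat.card N * Nat.card M := by
      have h2 := (M.comap (QuotientGroup.mk' N)).card_mul_index
      have h3 : (M.comap (QuotientGroup.mk' N)).index = M.index :=
        M.index_comap_of_surjective (QuotientGroup.mk'_surjective N)
      rw [h3, card_eq M, ← mul_assoc] at h2
      exact Nat.eq_of_mul_eq_mul_right (Nat.pos_of_ne_zero M.index_ne_zero_of_finite) h2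
    rw [h1] at hpH
    rcases hp.dvd_mul.mp hpH with h | h
    · exact absurd h hNp
    · exact h
  obtain ⟨M, hMn, hM0, hMmin⟩ : ∃ M : Subgroup (G ⧸ N), M.Normal ∧ M ≠ ⊥ ∧
      ∀ L : Subgroup (G ⧸ N), L.Normal → L ≤ M → L = ⊥ ∨ L = M := by
    have hfin : {L : Subgroup (G ⧸ N) | L.Normal ∧ L ≠ ⊥}.Finite := Set.toFinite _
    obtain ⟨M, hM⟩ := hfin.exists_minimal ⟨⊤, Subgroup.normal_top, by
      intro h
      have h2 : Nat.card (G ⧸ N) = 1 := by
        have := Subgroup.card_top (G := G ⧸ N)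
        rw [h, Subgroup.card_bot] at this
        exact this.symm
      rw [← Subgroup.index_eq_card] at h2
      rw [h2] at hpidx
      exact hp.one_lt.ne' (Nat.dvd_one.mp hpidx)⟩
    refine ⟨M, hM.1.1, hM.1.2, fun L hL hLM => ?_⟩
    by_cases h : L = ⊥
    · exact Or.inl h
    · exact Or.inr (le_antisymm hLM (hM.2 ⟨hL, h⟩ hLM))
  have hpM : p ∣ Nat.card M := hquot M hMn hM0
  have hMG : Nat.card M * M.index ∣ Nat.card G := by
    rw [card_eq M]
    exact Nat.dvd_mul_left _ _
  have hp2 : ¬ p ^ 2 ∣ Nat.card G := by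
    intro h3
    have h4 := (hp.pow_dvd_iff_le_factorization Nat.card_pos.ne').mp h3
    omega
  have hp2M : ¬ p ^ 2 ∣ Nat.card M := fun h =>
    hp2 ((h.trans (Nat.dvd_mul_right _ _)).trans hMG)
  have hsimple : IsSimpleGroup M := isSimple_of_minimal M hMmin hp hpM hp2M
  refine ⟨N, hNn, M, hMn, hsimple, hpM, hNp, fun hnonab => ?_⟩
  by_contra hC
  have hCn : (centralizer (M : Set (G ⧸ N))).Normal := Subgroup.normal_centralizer
  have hpC := hquot _ hCn hC
  have hdisj : Disjoint (centralizer (M : Set (G ⧸ N))) M := by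
    rw [disjoint_iff]
    rcases hMmin (centralizer (M : Set (G ⧸ N)) ⊓ M) inferInstance inf_le_right with h1 | h1
    · exact h1
    · exfalso
      apply hnonab
      intro a b
      have hb : (b : G ⧸ N) ∈ centralizer (M : Set (G ⧸ N)) ⊓ M := by
        rw [h1]
        exact b.2
      apply Subtype.ext
      exact (mem_centralizer_iff.mp (mem_inf.mp hb).1 a a.2)
  have h5 : Nat.card (centralizer (M : Set (G ⧸ N))) * Nat.card M ∣ Nat.card (G ⧸ N) := by
    have h6 : Nat.card (centralizer (M : Set (G ⧸ N))) ∣ Nat.card ((G ⧸ N) ⧸ M) := by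
      apply Subgroup.card_dvd_of_injective
        ((QuotientGroup.mk' M).comp (centralizer (M : Set (G ⧸ N))).subtype)
      rw [injective_iff_map_eq_one]
      intro x hx
      have h7 : (x : G ⧸ N) ∈ M := (QuotientGroup.eq_one_iff (x : G ⧸ N)).mp hx
      have h8 : (x : G ⧸ N) ∈ centralizer (M : Set (G ⧸ N)) ⊓ M := mem_inf.mpr ⟨x.2, h7⟩
      rw [disjoint_iff.mp hdisj] at h8
      exact Subtype.ext (mem_bot.mp h8)
    rw [← Subgroup.index_eq_card] at h6
    rw [← M.index_mul_card]
    exact Nat.mul_dvd_mul_right h6 _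
  have h6 : p ^ 2 ∣ Nat.card G := by
    rw [pow_two, ← N.card_mul_index, Subgroup.index_eq_card]
    exact ((Nat.mul_dvd_mul hpC hpM).trans h5).mul_left _
  exact hp2 h6

end

end Cfsg.Agent.H428.SylNorm
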