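import Mathlib
import Cfsg.Agent.H189.FeitTits
import Cfsg.Agent.H428.SylNorm.Count
import Cfsg.Agent.H363.AltPrimes

/-!
# Alternating sections act trivially on small `t`-groups (helper428)

`exists_centralizing_alt` : `N_G(S) N = G`, `M ≤ G / N` isomorphic to `A_m`, `m ≥ 9`, `|S| = t ^ a` with `a + 2 < m`:
for each prime `p ≤ m` there is an element of order `p` centralizing `S` (by the Feit-Tits theorem).
-/

set_option autoImplicit false

namespace Cfsg.Agent.H428.SylNorm

open Subgroup

universe u v

/-- a homomorphism of a perfect group with commuting values is trivial -/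
theorem hom_trivial {H : Type v} [Group H] (hH : commutator H = ⊤) {A : Type u} [Group A]
    (hA : ∀ a b : A, a * b = b * a) (f : H →* A) (h : H) : f h = 1 := by
  let _ : CommGroup A := { (inferInstance : Group A) with mul_comm := hA }
  have h4 : commutator H ≤ f.ker := Abelianization.commutator_subset_ker f
  rw [hH] at h4
  exact MonoidHom.mem_ker.mp (h4 (mem_top h))

/-- a perfect group acting trivially on a central subgroup and on the quotient acts trivially -/
theorem act_trivial_of {H : Type v} [Group H] (hH : commutator H = ⊤) {S : Type u} [Group S] (φ : H →* MulAut S)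
    (Ω : Subgroup S) (hc : Ω ≤ center S) (h1 : ∀ h, ∀ z ∈ Ω, φ h z = z) (h2 : ∀ h s, s⁻¹ * φ h s ∈ Ω) :
    ∀ h s, φ h s = s := by
  intro h s
  let f : H →* Ω :=
    { toFun := fun h => ⟨s⁻¹ * φ h s, h2 h s⟩
      map_one' := by
        apply Subtype.ext
        simp
      map_mul' := fun g h => by
        apply Subtype.ext
        have e1 : φ (g * h) s = φ g (φ h s) := by rw [map_mul]; rfl
        have e2 : φ g (s⁻¹ * φ h s) = s⁻¹ * φ h s := h1 g _ (h2 h s)
        have e3 : φ g (φ h s) = φ g s * (s⁻¹ * φ h s) := by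
          rw [← e2, ← map_mul, mul_inv_cancel_left]
        change s⁻¹ * φ (g * h) s = s⁻¹ * φ g s * (s⁻¹ * φ h s)
        rw [e1, e3, mul_assoc] }
  have h3 : f h = 1 := hom_trivial hH (fun a b => Subtype.ext (mem_center_iff.mp (hc b.2) a)) f h
  have h5 := congrArg Subtype.val h3
  change s⁻¹ * φ h s = 1 at h5
  exact (inv_mul_eq_one.mp h5).symm

/-- a perfect group without nontrivial representations of degree at most `a` over `𝔽_t` acts trivially on groups of
order at most `t ^ a` -/
theorem act_trivial {H : Type v} [Group H] (hH : commutator H = ⊤) {t : ℕ} [ht : Fact t.Prime] {a : ℕ}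
    (hrep : ∀ d, d ≤ a → ∀ θ : H →* Matrix (Fin d) (Fin d) (ZMod t), ∀ h, θ h = 1) :
    ∀ (k : ℕ), k ≤ a → ∀ (S : Type u) [Group S] [Finite S] (φ : H →* MulAut S), Nat.card S = t ^ k →
      ∀ h s, φ h s = s := by
  intro k
  induction k using Nat.strong_induction_on with
  | _ k ih =>
    intro hk S _ _ φ hcard
    rcases Nat.eq_zero_or_pos k with rfl | hk0
    · intro h s
      rw [pow_zero] at hcard
      have := (Nat.card_eq_one_iff_unique.mp hcard).1
      exact Subsingleton.elim _ _
    have hS : IsPGroup t S := IsPGroup.of_card hcard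
    have hnt : Nontrivial S := by
      rw [← Finite.one_lt_card_iff_nontrivial, hcard]
      exact Nat.one_lt_pow hk0.ne' ht.out.one_lt
    have hZ : Nontrivial (center S) := hS.center_nontrivial
    -- the subgroup of the center
    let Ω : Subgroup S :=
      { carrier := {z | z ∈ center S ∧ z ^ t = 1}
        mul_mem' := fun {a b} ha hb => ⟨mul_mem ha.1 hb.1, by
          have h1 : Commute a b := mem_center_iff.mp hb.1 a
          rw [h1.mul_pow, ha.2, hb.2, mul_one]⟩
        one_mem' := ⟨one_mem _, one_pow t⟩
        inv_mem' := fun {a} ha => ⟨inv_mem ha.1, by rw [inv_pow, ha.2, inv_one]⟩ }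
    have hΩ : ∀ z : S, z ∈ Ω ↔ z ∈ center S ∧ z ^ t = 1 := fun z => Iff.rfl
    have hΩc : Ω ≤ center S := fun z hz => hz.1
    have hcen : ∀ (ψ : MulAut S) (z : S), z ∈ center S → ψ z ∈ center S := by
      intro ψ z hz
      rw [mem_center_iff] at hz ⊢
      intro s
      obtain ⟨s, rfl⟩ := ψ.surjective s
      rw [← map_mul, hz, map_mul]
    have hinv : ∀ (ψ : MulAut S) (z : S), z ∈ Ω → ψ z ∈ Ω := by
      intro ψ z hz
      rw [hΩ] at hz ⊢
      refine ⟨hcen ψ z hz.1, ?_⟩
      rw [← map_pow, hz.2, map_one]
    have hΩne : Ω ≠ ⊥ := by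
      intro h0
      obtain ⟨z, hz⟩ := exists_prime_orderOf_dvd_card' (G := center S) t (by
        have h1 : IsPGroup t (center S) := hS.to_subgroup _
        obtain ⟨n, hn⟩ := IsPGroup.iff_card.mp h1
        have h2 : n ≠ 0 := by
          rintro rfl
          have := Finite.one_lt_card (α := center S)
          rw [hn] at this
          simp at this
        rw [hn]
        exact dvd_pow_self t h2)
      have h1 : (z : S) ∈ Ω := ⟨z.2, by
        have h3 : (z : center S) ^ t = 1 := by rw [← hz]; exact pow_orderOf_eq_one z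
        exact congrArg Subtype.val h3⟩
      rw [h0, mem_bot] at h1
      have h2 : z = 1 := Subtype.ext h1
      rw [h2, orderOf_one] at hz
      exact ht.out.one_lt.ne hz
    have hΩn : Ω.Normal := ⟨fun z hz g => by
      have : g * z * g⁻¹ = z := by
        rw [mem_center_iff.mp (hΩc hz) g]
        group
      rwa [this]⟩
    let _ : CommGroup Ω := { (inferInstance : Group Ω) with
      mul_comm := fun a b => Subtype.ext (mem_center_iff.mp (hΩc b.2) a) }
    -- the action on `Ω`
    let β : H →* AddMonoid.End (Additive Ω) :=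
      { toFun := fun h =>
          { toFun := fun x => Additive.ofMul ⟨φ h (Additive.toMul x : Ω), hinv _ _ (Additive.toMul x : Ω).2⟩
            map_zero' := by
              apply Additive.toMul.injective
              apply Subtype.ext
              exact map_one (φ h)
            map_add' := fun x y => by
              apply Additive.toMul.injective
              apply Subtype.ext
              exact map_mul (φ h) _ _ }
        map_one' := by
          apply AddMonoidHom.ext
          intro x
          apply Additive.toMul.injective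
          apply Subtype.ext
          change φ 1 _ = _
          rw [map_one]
          rfl
        map_mul' := fun g h => by
          apply AddMonoidHom.ext
          intro x
          apply Additive.toMul.injective
          apply Subtype.ext
          change φ (g * h) _ = φ g (φ h _)
          rw [map_mul]
          rfl }
    obtain ⟨m, θ, hm, hθ⟩ := Cfsg.Agent.H189.FeitTits.exists_mod (E := Additive Ω) t (by
      intro x
      apply Additive.toMul.injective
      exact Subtype.ext ((Additive.toMul x : Ω).2).2) β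
    have hcΩ : Nat.card Ω = t ^ m := hm.symm
    have hmk : m ≤ k := by
      have h1 : Nat.card Ω ∣ Nat.card S := Subgroup.card_subgroup_dvd_card Ω
      rw [hcΩ, hcard] at h1
      exact (Nat.pow_dvd_pow_iff_le_right ht.out.one_lt).mp h1
    have hm0 : m ≠ 0 := by
      rintro rfl
      rw [pow_zero] at hcΩ
      exact hΩne (Subgroup.card_eq_one.mp hcΩ)
    have h1 : ∀ h, ∀ z ∈ Ω, φ h z = z := by
      intro h z hz
      have h2 := hθ h (hrep m (by omega) θ h) (Additive.ofMul ⟨z, hz⟩)
      exact congrArg (fun x : Additive Ω => ((Additive.toMul x : Ω) : S)) h2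
    -- the action on the quotient
    have hmap : ∀ h, Ω.map (φ h : S ≃* S).toMonoidHom = Ω := by
      intro h
      apply Subgroup.eq_of_le_of_card_ge
      · rintro _ ⟨z, hz, rfl⟩
        exact hinv (φ h) z hz
      · exact (Nat.card_congr (Ω.equivMapOfInjective _ (φ h).injective).toEquiv).le
    let ψ : H →* MulAut (S ⧸ Ω) :=
      { toFun := fun h => QuotientGroup.congr Ω Ω (φ h) (hmap h)
        map_one' := by
          ext x
          obtain ⟨x, rfl⟩ := QuotientGroup.mk'_surjective Ω x
          change ((φ 1 x : S) : S ⧸ Ω) = (x : S ⧸ Ω)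
          rw [map_one]
          rfl
        map_mul' := fun g h => by
          ext x
          obtain ⟨x, rfl⟩ := QuotientGroup.mk'_surjective Ω x
          change ((φ (g * h) x : S) : S ⧸ Ω) = ((φ g (φ h x) : S) : S ⧸ Ω)
          rw [map_mul]
          rfl }
    have hcq : Nat.card (S ⧸ Ω) = t ^ (k - m) := by
      have h3 := Subgroup.card_eq_card_quotient_mul_card_subgroup Ω
      rw [hcΩ, hcard, ← Nat.sub_add_cancel hmk, pow_add] at h3
      exact (Nat.eq_of_mul_eq_mul_right (pow_pos ht.out.pos m) h3).symm
    have h3 := ih (k - m) (by omega) (by omega) (S ⧸ Ω) ψ hcq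
    refine act_trivial_of hH φ Ω hΩc h1 fun h s => ?_
    have h4 := h3 h (s : S ⧸ Ω)
    change ((φ h s : S) : S ⧸ Ω) = (s : S ⧸ Ω) at h4
    exact QuotientGroup.eq.mp h4.symm

/-- a group with a minimal surjection onto `A_m` has no nontrivial representation of degree less than `m - 2` -/
theorem rep_trivial {H : Type v} [Group H] [Finite H] {m : ℕ} (hm : 9 ≤ m) {π : H →* alternatingGroup (Fin m)}
    (h : Cfsg.Agent.H189.MinCov.IsMin π) {t : ℕ} [ht : Fact t.Prime] {d : ℕ} (hd : d + 2 < m)
    (θ : H →* Matrix (Fin d) (Fin d) (ZMod t)) : ∀ h, θ h = 1 := by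
  have hs := Cfsg.Agent.H189.FeitTits.alt_simple hm
  let L : Matrix (Fin d) (Fin d) (ZMod t) →* Module.End (ZMod t) (Fin d → ZMod t) :=
    (Matrix.toLinAlgEquiv' : Matrix (Fin d) (Fin d) (ZMod t) ≃ₐ[ZMod t] _).toAlgHom.toRingHom.toMonoidHom
  have hL : Function.Injective L := (Matrix.toLinAlgEquiv' : Matrix (Fin d) (Fin d) (ZMod t) ≃ₐ[ZMod t] _).injective
  rcases h.normal θ.ker with h1 | h1
  · intro x
    exact MonoidHom.mem_ker.mp (h1 ▸ mem_top x)
  · exfalso
    have h2 := Cfsg.Agent.H189.FeitTits.feit_tits (k := ZMod t) t hm π h.1 (L.comp θ) (by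
      intro g hg
      apply MonoidHom.mem_ker.mp
      apply h1
      rw [MonoidHom.mem_ker]
      apply hL
      rw [map_one]
      exact hg)
    rw [Module.finrank_fin_fun] at h2
    split_ifs at h2 <;> omega

theorem exists_centralizing_alt {G : Type u} [Group G] [Finite G] {m : ℕ} (hm : 9 ≤ m) {N : Subgroup G} [N.Normal]
    {M : Subgroup (G ⧸ N)} (e : M ≃* alternatingGroup (Fin m)) {t a : ℕ} (ht : t.Prime) {S : Subgroup G}
    (hS : Nat.card S = t ^ a) (hfr : normalizer (S : Set G) ⊔ N = ⊤) (ha : a + 2 < m) {p : ℕ} (hp : p.Prime)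
    (hpm : p ≤ m) : ∃ x ∈ centralizer (S : Set G), orderOf x = p := by
  have : Fact t.Prime := ⟨ht⟩
  have : Fact p.Prime := ⟨hp⟩
  have hsimple := Cfsg.Agent.H189.FeitTits.alt_simple hm
  let X : Subgroup G := normalizer (S : Set G)
  let Y : Subgroup X := M.comap ((QuotientGroup.mk' N).comp X.subtype)
  let π : Y →* alternatingGroup (Fin m) := e.toMonoidHom.comp
    ((((QuotientGroup.mk' N).comp X.subtype).comp Y.subtype).codRestrict M (fun y => y.2))
  have hπ : Function.Surjective π := by
    intro b
    obtain ⟨z, hz⟩ := e.surjective b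
    obtain ⟨g, hg⟩ := QuotientGroup.mk'_surjective N (z : G ⧸ N)
    have h1 : g ∈ X ⊔ N := by
      change g ∈ normalizer (S : Set G) ⊔ N
      rw [hfr]
      exact mem_top g
    obtain ⟨x, hx, y, hy, rfl⟩ := Subgroup.mem_sup_of_normal_right.mp h1
    have h2 : QuotientGroup.mk' N x = z := by
      rw [← hg, map_mul, (QuotientGroup.eq_one_iff y).mpr hy |> fun h => (h : QuotientGroup.mk' N y = 1), mul_one]
    refine ⟨⟨⟨x, hx⟩, ?_⟩, ?_⟩
    · change QuotientGroup.mk' N x ∈ M
      rw [h2]
      exact z.2
    · rw [← hz]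
      change e _ = e z
      congr 1
      exact Subtype.ext h2
  obtain ⟨H, hH⟩ := Cfsg.Agent.H189.MinCov.exists_min π hπ
  have hperf := hH.perfect (Cfsg.Agent.H189.FeitTits.alt_nonab hm)
  let φ : H →* MulAut S := (S.normalizerMonoidHom.comp Y.subtype).comp H.subtype
  have hφ : ∀ h s, φ h s = s := act_trivial hperf (t := t) (a := a)
    (fun d hd θ => rep_trivial hm hH (by omega) θ) a le_rfl S φ hS
  have hpc : p ∣ Nat.card H := by
    have h1 : Nat.card (alternatingGroup (Fin m)) ∣ Nat.card H := Subgroup.card_dvd_of_surjective _ hH.1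
    refine dvd_trans ?_ h1
    have h2 := Cfsg.Agent.H363.AltPrimes.card_alternating (n := m) (by omega)
    have h3 : 2 * p ∣ m.factorial := by
      rcases Nat.eq_or_lt_of_le hp.two_le with h4 | h4
      · rw [← h4]
        exact (show 2 * 2 ∣ Nat.factorial 4 by decide).trans (Nat.factorial_dvd_factorial (by omega))
      · exact Nat.Coprime.mul_dvd_of_dvd_of_dvd ((Nat.coprime_primes Nat.prime_two hp).mpr (by omega))
          (Nat.dvd_factorial (by norm_num) (by omega)) (Nat.dvd_factorial (by omega) hpm)
    rw [← h2] at h3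
    exact Nat.dvd_of_mul_dvd_mul_left (by norm_num) h3
  obtain ⟨x, hx⟩ := exists_prime_orderOf_dvd_card' p hpc
  refine ⟨(((x : H) : Y) : X), ?_, ?_⟩
  · rw [mem_centralizer_iff]
    intro s hs
    have h1 := congrArg Subtype.val (hφ x ⟨s, hs⟩)
    change (((x : Y) : X) : G) * s * (((x : Y) : X) : G)⁻¹ = s at h1
    rw [mul_inv_eq_iff_eq_mul] at h1
    exact h1.symm
  · rw [Subgroup.orderOf_coe, Subgroup.orderOf_coe, Subgroup.orderOf_coe, hx]

end Cfsg.Agent.H428.SylNorm
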