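import Mathlib
import Cfsg.Agent.H363.AltPrimes
import Cfsg.Agent.Ly.McL.Simple

/-!
# Sylow normalizers of `A_n` and large primes (helper428)

`p` prime, `n / 2 < p ≤ n`, `p ≥ 5`:

* `card_sylow_alt` : the number of Sylow `p`-subgroups of `A_n`;
* `not_dvd_normalizer` : `p` does not divide the order of the normalizer of a Sylow `s`-subgroup, `s ≠ p`.
-/

set_option autoImplicit false

namespace Cfsg.Agent.H428.SylNorm.Alt

open Equiv Equiv.Perm Subgroup Cfsg.Agent.H363.Frat Cfsg.Agent.H363.AltPrimes

/-- the cycle type of elements of order `p` -/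
theorem orderOf_eq_iff {n p : ℕ} (hp : p.Prime) (hnp : n < 2 * p) (σ : Perm (Fin n)) :
    orderOf σ = p ↔ σ.cycleType = {p} := by
  constructor
  · intro h
    have h1 : σ.IsCycle := isCycle_of_prime_order' (by rw [h]; exact hp) (by rw [h, Fintype.card_fin]; exact hnp)
    rw [h1.cycleType, ← h1.orderOf, h]
  · intro h
    rw [← lcm_cycleType, h]
    simp

/-- **the number of Sylow `p`-subgroups of `A_n`** -/
theorem card_sylow_alt {n p : ℕ} [hp : Fact p.Prime] (hp2 : p ≠ 2) (hpn : p ≤ n) (hnp : n < 2 * p) :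
    Nat.card (Sylow p (alternatingGroup (Fin n))) * (p * (p - 1) * (n - p).factorial) = n.factorial := by
  have hn2 : 2 ≤ n := hp.out.two_le.trans hpn
  have hP : ∀ P : Sylow p (alternatingGroup (Fin n)), Nat.card (P : Subgroup (alternatingGroup (Fin n))) = p := by
    intro P
    rw [P.card_eq_multiplicity, factorization_alternating hn2 hp.out hp2 hpn hnp, pow_one]
  have h1 := Ly.McL.Simple.card_orderOf_prime hP
  have h2 : Nat.card {x : alternatingGroup (Fin n) // orderOf x = p} =
      Nat.card {g : Perm (Fin n) // g.cycleType = {p}} := by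
    apply Nat.card_congr
    refine ⟨fun x => ⟨x.1, ?_⟩, fun x => ⟨⟨x.1, ?_⟩, ?_⟩, fun _ => rfl, fun _ => rfl⟩
    · rw [← orderOf_eq_iff hp.out hnp, Subgroup.orderOf_coe]
      exact x.2
    · rw [mem_alternatingGroup, sign_of_cycleType, x.2]
      obtain ⟨k, hk⟩ := hp.out.odd_of_ne_two hp2
      simp only [Multiset.sum_singleton, Multiset.card_singleton]
      rw [hk, show 2 * k + 1 + 1 = 2 * (k + 1) by ring, pow_mul]
      simp
    · rw [← Subgroup.orderOf_coe]
      exact (orderOf_eq_iff hp.out hnp _).2 x.2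
  have h3 := card_of_cycleType_mul_eq (Fin n) {p}
  rw [if_pos (by simpa using ⟨hpn, hp.out.two_le⟩)] at h3
  simp only [Multiset.sum_singleton, Multiset.prod_singleton, Multiset.toFinset_singleton, Finset.prod_singleton,
    Multiset.count_singleton_self, Nat.factorial_one, mul_one, Fintype.card_fin] at h3
  have h4 : Nat.card {g : Perm (Fin n) // g.cycleType = {p}} =
      Finset.card ({g | g.cycleType = {p}} : Finset (Perm (Fin n))) := by
    rw [Nat.card_eq_fintype_card, Fintype.card_subtype]
  rw [← h3, ← h4, ← h2, h1]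
  ring

/-! ### The normalizer of a Sylow `s`-subgroup -/

variable {n : ℕ}

/-- a group of permutations fixing the points of `F` -/
theorem card_dvd_of_fix {Q : Subgroup (Perm (Fin n))} {F : Finset (Fin n)} (h : ∀ q ∈ Q, ∀ y ∈ F, q y = y) :
    Nat.card Q ∣ (n - F.card).factorial := by
  classical
  have h1 : Q ≤ (ofSubtype : Perm {x // x ∉ F} →* Perm (Fin n)).range := by
    intro q hq
    rw [MonoidHom.mem_range]
    refine (mem_range_ofSubtype_iff (p := fun x => x ∉ F) (g := q)).2 ?_
    intro x hx hxF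
    rw [Finset.mem_coe, mem_support] at hx
    exact hx (h q hq x hxF)
  have h2 : Nat.card (ofSubtype : Perm {x // x ∉ F} →* Perm (Fin n)).range = (n - F.card).factorial := by
    rw [← Nat.card_congr (MonoidHom.ofInjective (ofSubtype_injective (p := fun x => x ∉ F))).toEquiv, Nat.card_perm]
    congr 1
    rw [Nat.card_eq_fintype_card, Fintype.card_subtype_compl, Fintype.card_fin, Fintype.card_coe]
  rw [← h2]
  exact Subgroup.card_dvd_of_le h1

theorem inv_app (u : Perm (Fin n)) (x : Fin n) : u⁻¹ (u x) = x := u.symm_apply_apply x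

/-- the elements of the normalizer of `H` which fix the `H`-orbit of `x` -/
def T (H : Subgroup (Perm (Fin n))) (x : Fin n) : Subgroup (Perm (Fin n)) where
  carrier := {u | u ∈ normalizer (H : Set (Perm (Fin n))) ∧ ∃ h ∈ H, u x = h x}
  mul_mem' := by
    rintro u v ⟨hu, h, hh, hux⟩ ⟨hv, k, hk, hvx⟩
    refine ⟨mul_mem hu hv, (u * k * u⁻¹) * h, mul_mem ((mem_normalizer_iff.mp hu k).mp hk) hh, ?_⟩
    simp only [Perm.mul_apply, hvx, ← hux, inv_app]
  one_mem' := ⟨one_mem _, 1, one_mem _, rfl⟩
  inv_mem' := by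
    rintro u ⟨hu, h, hh, hux⟩
    refine ⟨inv_mem hu, (u⁻¹ * h * u)⁻¹, inv_mem ?_, ?_⟩
    · rw [mem_normalizer_iff.mp hu]
      have : u * (u⁻¹ * h * u) * u⁻¹ = h := by group
      rw [this]
      exact hh
    · have : (u⁻¹ * h * u)⁻¹ = u⁻¹ * h⁻¹ * u := by group
      rw [this]
      simp only [Perm.mul_apply, hux, inv_app]

theorem mem_T {H : Subgroup (Perm (Fin n))} {x : Fin n} {u : Perm (Fin n)} :
    u ∈ T H x ↔ u ∈ normalizer (H : Set (Perm (Fin n))) ∧ ∃ h ∈ H, u x = h x := Iff.rfl

/-- if `H` is normalized by the cycle `g` of prime order and moves a point `x` moved by `g` then the `H`-orbit of `x`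
contains the support of `g` -/
theorem orbit_of_move {p : ℕ} (hp : p.Prime) {g : Perm (Fin n)} (hg : orderOf g = p) (hc : g.IsCycle)
    {H : Subgroup (Perm (Fin n))} (hgH : g ∈ normalizer (H : Set (Perm (Fin n)))) {x : Fin n} (hx : g x ≠ x)
    {h₀ : Perm (Fin n)} (hh₀ : h₀ ∈ H) (hmove : h₀ x ≠ x) : ∀ y, g y ≠ y → ∃ h ∈ H, h x = y := by
  have hgT : g ∈ T H x := by
    by_cases hz : g (h₀ x) = h₀ x
    · refine ⟨hgH, (g * h₀⁻¹ * g⁻¹) * h₀, mul_mem ((mem_normalizer_iff.mp hgH _).mp (inv_mem hh₀)) hh₀, ?_⟩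
      have h1 : g⁻¹ (h₀ x) = h₀ x := by
        rw [Perm.inv_eq_iff_eq]
        exact hz.symm
      simp only [Perm.mul_apply, h1, inv_app]
    · obtain ⟨i, hi⟩ := hc.exists_zpow_eq hx hz
      have h1 : g ^ i ∈ T H x := ⟨zpow_mem hgH i, h₀, hh₀, hi⟩
      have h2 : g ^ i ≠ 1 := by
        intro h
        rw [h] at hi
        exact hmove hi.symm
      -- `g` is a power of `g ^ i`
      have h3 : zpowers (g ^ i) = zpowers g := by
        have : Fact p.Prime := ⟨hp⟩
        have h4 : Nat.card (zpowers g) = p := by rw [Nat.card_zpowers, hg]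
        have h5 : zpowers (g ^ i) ≤ zpowers g := zpowers_le.mpr (zpow_mem (mem_zpowers g) i)
        apply Subgroup.eq_of_le_of_card_ge h5
        have h6 : Nat.card (zpowers (g ^ i)) ∣ p := by
          rw [← h4]
          exact Subgroup.card_dvd_of_le h5
        rcases (Nat.dvd_prime hp).mp h6 with h7 | h7
        · exfalso
          rw [Nat.card_zpowers, orderOf_eq_one_iff] at h7
          exact h2 h7
        · rw [h7, h4]
      have h4 : zpowers (g ^ i) ≤ T H x := zpowers_le.mpr h1
      rw [h3] at h4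
      exact h4 (mem_zpowers g)
  intro y hy
  obtain ⟨j, hj⟩ := hc.exists_zpow_eq hx hy
  obtain ⟨-, h, hh, h1⟩ := mem_T.mp (zpow_mem hgT j)
  exact ⟨h, hh, by rw [← h1, hj]⟩

/-- if `H` is normalized by the cycle `g` and fixes a point moved by `g` then it fixes all points moved by `g` -/
theorem fix_of_fix {g : Perm (Fin n)} (hc : g.IsCycle)
    {H : Subgroup (Perm (Fin n))} (hgH : g ∈ normalizer (H : Set (Perm (Fin n)))) {x : Fin n} (hx : g x ≠ x)
    (hfix : ∀ h ∈ H, h x = x) : ∀ y, g y ≠ y → ∀ h ∈ H, h y = y := by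
  intro y hy h hh
  obtain ⟨j, rfl⟩ := hc.exists_zpow_eq hx hy
  have h1 := hfix _ ((mem_normalizer_iff.mp (inv_mem (zpow_mem hgH j)) h).mp hh)
  rw [inv_inv, Perm.mul_apply, Perm.mul_apply, Perm.inv_eq_iff_eq] at h1
  exact h1

open Classical in
/-- the orbit as a finset -/
noncomputable def orbF (H : Subgroup (Perm (Fin n))) (y : Fin n) : Finset (Fin n) :=
  Finset.univ.filter (fun z => ∃ h ∈ H, h y = z)

theorem mem_orbF {H : Subgroup (Perm (Fin n))} {y z : Fin n} : z ∈ orbF H y ↔ ∃ h ∈ H, h y = z := by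
  simp [orbF]

theorem card_orbF (H : Subgroup (Perm (Fin n))) (y : Fin n) : (orbF H y).card = Nat.card (MulAction.orbit H y) := by
  rw [← Fintype.card_coe, ← Nat.card_eq_fintype_card]
  apply Nat.card_congr
  apply Equiv.subtypeEquivRight
  intro z
  rw [mem_orbF]
  constructor
  · rintro ⟨h, hh, rfl⟩
    exact ⟨⟨h, hh⟩, rfl⟩
  · rintro ⟨h, rfl⟩
    exact ⟨h, h.2, rfl⟩

theorem orb (H : Subgroup (Perm (Fin n))) (y : Fin n) :
    (orbF H y).card * Nat.card (H ⊓ MulAction.stabilizer (Perm (Fin n)) y : Subgroup (Perm (Fin n))) =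
      Nat.card H := by
  rw [card_orbF]
  have h1 := (MulAction.stabilizer H y).card_mul_index
  rw [MulAction.index_stabilizer] at h1
  have h2 : Nat.card (MulAction.stabilizer H y) =
      Nat.card (H ⊓ MulAction.stabilizer (Perm (Fin n)) y : Subgroup (Perm (Fin n))) := by
    have h3 : (MulAction.stabilizer H y).map H.subtype = H ⊓ MulAction.stabilizer (Perm (Fin n)) y := by
      ext h
      constructor
      · rintro ⟨h, hh, rfl⟩
        exact ⟨h.2, hh⟩
      · rintro ⟨h1, h2⟩
        exact ⟨⟨h, h1⟩, h2, rfl⟩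
    rw [← h3]
    exact Nat.card_congr ((MulAction.stabilizer H y).equivMapOfInjective _ H.subtype_injective).toEquiv
  rw [← h1, h2, mul_comm]
  rfl

theorem fact_pow {s : ℕ} (hs : s.Prime) (k : ℕ) : k * (k + 1) ≤ 2 * (s ^ k).factorial.factorization s := by
  induction k with
  | zero => simp
  | succ k ih =>
    have h1 : s ^ (k + 1) * (s ^ k).factorial ∣ (s ^ (k + 1)).factorial := by
      have h2 : s ^ k < s ^ (k + 1) := Nat.pow_lt_pow_right hs.one_lt (Nat.lt_succ_self k)
      rw [← Nat.mul_factorial_pred (n := s ^ (k + 1)) (by omega)]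
      exact Nat.mul_dvd_mul_left _ (Nat.factorial_dvd_factorial (by omega))
    have h2 := (Nat.factorization_le_iff_dvd (Nat.mul_ne_zero (pow_ne_zero _ hs.ne_zero) (Nat.factorial_ne_zero _))
      (Nat.factorial_ne_zero _)).mpr h1 s
    rw [Nat.factorization_mul (pow_ne_zero _ hs.ne_zero) (Nat.factorial_ne_zero _), Finsupp.add_apply,
      hs.factorization_pow, Finsupp.single_eq_same] at h2
    nlinarith

theorem fact_add_le {s n j : ℕ} (hj : j ≤ n) :
    j.factorial.factorization s + (n - j).factorial.factorization s ≤ n.factorial.factorization s := by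
  have h1 := Nat.factorial_mul_factorial_dvd_factorial_add j (n - j)
  rw [Nat.add_sub_cancel' hj] at h1
  have h2 := (Nat.factorization_le_iff_dvd (Nat.mul_ne_zero (Nat.factorial_ne_zero _) (Nat.factorial_ne_zero _))
      (Nat.factorial_ne_zero _)).mpr h1 s
  rwa [Nat.factorization_mul (Nat.factorial_ne_zero _) (Nat.factorial_ne_zero _), Finsupp.add_apply] at h2

theorem le_fact_of_dvd {s a m : ℕ} (hs : s.Prime) (h : s ^ a ∣ m.factorial) : a ≤ m.factorial.factorization s :=
  (hs.pow_dvd_iff_le_factorization (Nat.factorial_ne_zero _)).mp h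

theorem core {p s a : ℕ} (hp : p.Prime) (hs : s.Prime) (hp5 : 5 ≤ p) (hpn : p ≤ n) (hnp : n < 2 * p)
    (hsp : s ≠ p) (hsn : 2 * s ≤ n) {Q : Subgroup (Perm (Fin n))} (hQ : Nat.card Q = s ^ a)
    (ha : n.factorial.factorization s ≤ a + (if s = 2 then 1 else 0)) {g : Perm (Fin n)} (hg : orderOf g = p)
    (hgQ : g ∈ normalizer (Q : Set (Perm (Fin n)))) : False := by
  classical
  have : Fact s.Prime := ⟨hs⟩
  have hc : g.IsCycle := isCycle_of_prime_order' (by rw [hg]; exact hp) (by rw [hg, Fintype.card_fin]; exact hnp)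
  have hF : g.support.card = p := by rw [← hc.orderOf, hg]
  have hQs : IsPGroup s Q := IsPGroup.of_card hQ
  obtain ⟨x, hx, -⟩ := id hc
  by_cases hfix : ∀ h ∈ Q, h x = x
  · -- `Q` fixes the support of `g`
    have h1 : Nat.card Q ∣ (n - g.support.card).factorial := by
      apply card_dvd_of_fix
      intro q hq y hy
      exact fix_of_fix hc hgQ hx hfix y (mem_support.mp hy) q hq
    rw [hQ, hF] at h1
    have h2 := le_fact_of_dvd hs h1
    have h3 := fact_add_le (s := s) hpn
    by_cases hs2 : s = 2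
    · subst hs2
      rw [if_pos rfl] at ha
      have h4 : 2 ^ 3 ∣ p.factorial :=
        (show 2 ^ 3 ∣ Nat.factorial 5 by decide).trans (Nat.factorial_dvd_factorial hp5)
      have h5 := le_fact_of_dvd hs h4
      omega
    · rw [if_neg hs2] at ha
      have h4 : s ^ 1 ∣ p.factorial := by
        rw [pow_one]
        exact Nat.dvd_factorial hs.pos (by omega)
      have h5 := le_fact_of_dvd hs h4
      omega
  · push Not at hfix
    obtain ⟨h₀, hh₀, hmove⟩ := hfix
    have hO := orbit_of_move hp hg hc hgQ hx hh₀ hmove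
    obtain ⟨k, hk⟩ := hQs.card_orbit x
    rw [← card_orbF] at hk
    have hkn : s ^ k ≤ n := by
      rw [← hk]
      exact (Finset.card_le_univ _).trans (by rw [Fintype.card_fin])
    have hsub : g.support ⊆ orbF Q x := by
      intro y hy
      exact mem_orbF.mpr (hO y (mem_support.mp hy))
    have hpk : p ≤ s ^ k := by
      rw [← hk, ← hF]
      exact Finset.card_le_card hsub
    have hpk' : p ≠ s ^ k := by
      intro h
      have hk0 : k ≠ 0 := by
        rintro rfl
        rw [pow_zero] at h
        omega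
      have h1 : s ∣ p := by
        rw [h]
        exact dvd_pow_self s hk0
      exact hsp ((Nat.prime_dvd_prime_iff_eq hs hp).mp h1)
    -- a point of the orbit fixed by `g`
    obtain ⟨x₀, hx₀O, hx₀⟩ : ∃ x₀ ∈ orbF Q x, g x₀ = x₀ := by
      by_contra hcon
      push Not at hcon
      have h1 : orbF Q x ⊆ g.support := fun y hy => mem_support.mpr (hcon y hy)
      have h2 := Finset.card_le_card h1
      rw [hk, hF] at h2
      omega
    have horb : ∀ y ∈ orbF Q x, orbF Q y = orbF Q x := by
      intro y hy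
      obtain ⟨h, hh, rfl⟩ := mem_orbF.mp hy
      ext z
      rw [mem_orbF, mem_orbF]
      constructor
      · rintro ⟨u, hu, rfl⟩
        exact ⟨u * h, mul_mem hu hh, rfl⟩
      · rintro ⟨u, hu, rfl⟩
        exact ⟨u * h⁻¹, mul_mem hu (inv_mem hh), by rw [Perm.mul_apply, inv_app]⟩
    have hcard : ∀ y ∈ orbF Q x,
        Nat.card (Q ⊓ MulAction.stabilizer (Perm (Fin n)) y : Subgroup (Perm (Fin n))) =
          Nat.card (Q ⊓ MulAction.stabilizer (Perm (Fin n)) x : Subgroup (Perm (Fin n))) := by
      intro y hy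
      have h1 := orb Q y
      rw [horb y hy, ← orb Q x] at h1
      exact Nat.eq_of_mul_eq_mul_left (by rw [hk]; exact pow_pos hs.pos k) h1
    have hC : ∀ x₁ ∈ orbF Q x, g x₁ = x₁ → ∀ y, g y ≠ y →
        Q ⊓ MulAction.stabilizer (Perm (Fin n)) x₁ = Q ⊓ MulAction.stabilizer (Perm (Fin n)) y := by
      intro x₁ hx₁O hx₁ y hy
      have hyO : y ∈ orbF Q x := hsub (mem_support.mpr hy)
      have hgR : g ∈ normalizer ((Q ⊓ MulAction.stabilizer (Perm (Fin n)) x₁ : Subgroup (Perm (Fin n))) :
          Set (Perm (Fin n))) := by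
        have h1 : g⁻¹ x₁ = x₁ := by
          rw [Perm.inv_eq_iff_eq]
          exact hx₁.symm
        rw [mem_normalizer_iff]
        intro u
        rw [mem_inf, mem_inf, mem_normalizer_iff.mp hgQ u, MulAction.mem_stabilizer_iff, MulAction.mem_stabilizer_iff]
        apply and_congr_right
        intro _
        change u x₁ = x₁ ↔ g (u (g⁻¹ x₁)) = x₁
        rw [h1]
        constructor
        · intro h
          rw [h, hx₁]
        · intro h
          apply g.injective
          rw [h, hx₁]
      have hle : Q ⊓ MulAction.stabilizer (Perm (Fin n)) x₁ ≤ Q ⊓ MulAction.stabilizer (Perm (Fin n)) y := by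
        by_cases hR : ∀ h ∈ Q ⊓ MulAction.stabilizer (Perm (Fin n)) x₁, h x = x
        · intro h hh
          exact ⟨hh.1, fix_of_fix hc hgR hx hR y hy h hh⟩
        · exfalso
          push Not at hR
          obtain ⟨h₁, hh₁, hmove₁⟩ := hR
          have hO₁ := orbit_of_move hp hg hc hgR hx hh₁ hmove₁
          have hRs : IsPGroup s (Q ⊓ MulAction.stabilizer (Perm (Fin n)) x₁ : Subgroup (Perm (Fin n))) :=
            hQs.to_le inf_le_left
          obtain ⟨j, hj⟩ := hRs.card_orbit x
          rw [← card_orbF] at hj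
          have h2 : p ≤ s ^ j := by
            rw [← hj, ← hF]
            exact Finset.card_le_card fun y hy => mem_orbF.mpr (hO₁ y (mem_support.mp hy))
          have h3 : orbF (Q ⊓ MulAction.stabilizer (Perm (Fin n)) x₁) x ⊂ orbF Q x := by
            rw [Finset.ssubset_iff_of_subset]
            · refine ⟨x₁, hx₁O, ?_⟩
              intro h4
              obtain ⟨u, hu, hux⟩ := mem_orbF.mp h4
              have h5 : u x₁ = x₁ := hu.2
              rw [← h5] at hux
              have h6 := u.injective hux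
              rw [h6] at hx
              exact hx hx₁
            · intro z hz
              obtain ⟨u, hu, rfl⟩ := mem_orbF.mp hz
              exact mem_orbF.mpr ⟨u, hu.1, rfl⟩
          have h4 := Finset.card_lt_card h3
          rw [hj, hk] at h4
          have h5 : j < k := (Nat.pow_lt_pow_iff_right hs.one_lt).mp h4
          have h6 : s ^ (j + 1) ≤ s ^ k := Nat.pow_le_pow_right hs.pos h5
          have h7 : 2 * s ^ j ≤ s ^ (j + 1) := by
            rw [pow_succ']
            exact Nat.mul_le_mul_right _ hs.two_le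
          omega
      apply Subgroup.eq_of_le_of_card_ge hle
      rw [hcard y hyO, hcard x₁ hx₁O]
    have hR : ∀ q ∈ Q ⊓ MulAction.stabilizer (Perm (Fin n)) x, ∀ y ∈ orbF Q x, q y = y := by
      intro q hq y hy
      have h1 : Q ⊓ MulAction.stabilizer (Perm (Fin n)) y = Q ⊓ MulAction.stabilizer (Perm (Fin n)) x := by
        by_cases hgy : g y = y
        · exact hC y hy hgy x hx
        · rw [← hC x₀ hx₀O hx₀ y hgy, hC x₀ hx₀O hx₀ x hx]
      rw [← h1] at hq
      exact hq.2
    have h1 := card_dvd_of_fix hR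
    have h2 := orb Q x
    rw [hQ, hk] at h2
    obtain ⟨r, hr, hr'⟩ := (Nat.dvd_prime_pow hs).mp (Dvd.intro_left _ h2)
    rw [hr', hk] at h1
    rw [hr', ← pow_add] at h2
    have h3 : k + r = a := Nat.pow_right_injective hs.two_le h2
    have h4 := le_fact_of_dvd hs h1
    have h5 := fact_add_le (s := s) hkn
    have h6 := fact_pow hs k
    have hk2 : 2 ≤ k := by
      by_contra hlt
      have : s ^ k ≤ s ^ 1 := Nat.pow_le_pow_right hs.pos (by omega)
      rw [pow_one] at this
      omega
    by_cases hs2 : s = 2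
    · subst hs2
      rw [if_pos rfl] at ha
      have h7 : k < 3 := by
        by_contra hlt
        nlinarith
      interval_cases k
      omega
    · rw [if_neg hs2] at ha
      nlinarith

/-- **Sylow normalizers of `A_n` and large primes** -/
theorem not_dvd_normalizer {p s : ℕ} (hp : p.Prime) [hs : Fact s.Prime] (hp5 : 5 ≤ p) (hpn : p ≤ n) (hnp : n < 2 * p)
    (hsp : s ≠ p) (hsA : s ∣ Nat.card (alternatingGroup (Fin n))) (Q : Sylow s (alternatingGroup (Fin n))) :
    ¬ p ∣ Nat.card (normalizer ((Q : Subgroup (alternatingGroup (Fin n))) : Set (alternatingGroup (Fin n)))) := by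
  intro hd
  have : Fact p.Prime := ⟨hp⟩
  obtain ⟨g, hg⟩ := exists_prime_orderOf_dvd_card' p hd
  have hn2 : 2 ≤ n := by omega
  have hA := card_alternating hn2
  have hsn : s ≤ n := by
    rw [← hs.out.dvd_factorial, ← hA]
    exact hsA.mul_left 2
  have hfac : n.factorial.factorization s = (if s = 2 then 1 else 0) +
      (Nat.card (alternatingGroup (Fin n))).factorization s := by
    rw [← hA, Nat.factorization_mul (by norm_num) Nat.card_pos.ne', Finsupp.add_apply,
      Nat.Prime.factorization Nat.prime_two, Finsupp.single_apply]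
    congr 1
    by_cases h : s = 2
    · rw [if_pos h, if_pos h.symm]
    · rw [if_neg h, if_neg (Ne.symm h)]
  have hg' : orderOf (g : alternatingGroup (Fin n)) = p := by rw [Subgroup.orderOf_coe, hg]
  rcases Nat.lt_or_ge n (2 * s) with h2s | h2s
  · -- `s` is large as well
    have h1 := dvd_card_sub_one hp hs.out (Ne.symm hsp)
      (nonAdj_alternating (n := n) hp hs.out (Ne.symm hsp) hnp h2s) (Q := zpowers (g : alternatingGroup (Fin n)))
      (S := (Q : Subgroup (alternatingGroup (Fin n)))) (IsPGroup.of_card (n := 1) (by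
        rw [Nat.card_zpowers, hg', pow_one])) Q.2 (zpowers_le.mpr g.2)
    rw [Nat.card_zpowers, hg', Q.card_eq_multiplicity] at h1
    have h2 : (Nat.card (alternatingGroup (Fin n))).factorization s = 1 := by
      apply factorization_alternating hn2 hs.out _ hsn h2s
      rintro rfl
      omega
    rw [h2, pow_one] at h1
    obtain ⟨c, hc⟩ := h1
    have hs3 : s ≠ 2 := by
      rintro rfl
      omega
    obtain ⟨u, hu⟩ := hs.out.odd_of_ne_two hs3
    obtain ⟨v, hv⟩ := hp.odd_of_ne_two (by omega)
    have hc2 : c < 2 := by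
      by_contra hlt
      have : p * 2 ≤ p * c := Nat.mul_le_mul_left p (by omega)
      omega
    interval_cases c
    · omega
    · omega
  · refine core (n := n) hp hs.out hp5 hpn hnp hsp h2s (a := (Nat.card (alternatingGroup (Fin n))).factorization s)
      (Q := (Q : Subgroup (alternatingGroup (Fin n))).map (alternatingGroup (Fin n)).subtype)
      (g := ((g : alternatingGroup (Fin n)) : Perm (Fin n))) ?_ ?_ ?_ ?_
    · rw [← Nat.card_congr ((Q : Subgroup (alternatingGroup (Fin n))).equivMapOfInjective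
        (alternatingGroup (Fin n)).subtype (alternatingGroup (Fin n)).subtype_injective).toEquiv]
      exact Q.card_eq_multiplicity
    · rw [hfac, add_comm]
    · rw [Subgroup.orderOf_coe, hg']
    · rw [mem_normalizer_iff]
      intro u
      constructor
      · rintro ⟨v, hv, rfl⟩
        exact ⟨g * v * g⁻¹, (mem_normalizer_iff.mp g.2 v).mp hv, rfl⟩
      · rintro ⟨v, hv, hvu⟩
        refine ⟨(g : alternatingGroup (Fin n))⁻¹ * v * g, ?_, ?_⟩
        · rw [SetLike.mem_coe, mem_normalizer_iff.mp g.2]
          have : (g : alternatingGroup (Fin n)) * ((g : alternatingGroup (Fin n))⁻¹ * v * g) *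
            (g : alternatingGroup (Fin n))⁻¹ = v := by group
          rw [this]
          exact hv
        · rw [map_mul, map_mul, hvu, map_inv]
          change ((g : alternatingGroup (Fin n)) : Perm (Fin n))⁻¹ * (((g : alternatingGroup (Fin n)) : Perm (Fin n)) *
            u * ((g : alternatingGroup (Fin n)) : Perm (Fin n))⁻¹) * ((g : alternatingGroup (Fin n)) : Perm (Fin n)) = u
          group

end Cfsg.Agent.H428.SylNorm.Alt
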