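import Mathlib
import Cfsg.Agent.H357.Main
import Cfsg.Agent.H428.SylNorm.Act
import Cfsg.Agent.H428.SylNorm.Alt

/-!
# Groups with the Sylow numbers of `A_n` for the large primes, `n ≥ 13` (helper428)
-/

set_option autoImplicit false

namespace Cfsg.Agent.H428.SylNorm

open Subgroup Cfsg Cfsg.Agent.OrdDiv Cfsg.Agent.H357.Reduce Cfsg.Agent.H363.AltPrimes Cfsg.Agent.H405.Shape

universe u

/-- the hypotheses: the order of `A_n` and the Sylow numbers for the primes greater than `n / 2` -/
structure Hyp2 (G : Type u) [Group G] (n : ℕ) : Prop where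
  card : 2 * Nat.card G = n.factorial
  syl : ∀ p : ℕ, p.Prime → 5 ≤ p → p ≤ n → n < 2 * p →
    Nat.card (Sylow p G) * (p * (p - 1) * (n - p).factorial) = n.factorial

variable {G : Type u} [Group G] [Finite G] {n : ℕ}

theorem Hyp2.fac_odd (h : Hyp2 G n) {t : ℕ} (ht2 : t ≠ 2) :
    (Nat.card G).factorization t = n.factorial.factorization t := by
  rw [← h.card, Nat.factorization_mul (by norm_num) Nat.card_pos.ne', Finsupp.add_apply,
    Nat.Prime.factorization Nat.prime_two, Finsupp.single_apply, if_neg (Ne.symm ht2), zero_add]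

theorem Hyp2.fac_le (h : Hyp2 G n) (t : ℕ) : (Nat.card G).factorization t ≤ n.factorial.factorization t := by
  rw [← h.card, Nat.factorization_mul (by norm_num) Nat.card_pos.ne', Finsupp.add_apply]
  omega

theorem Hyp2.fac_one (h : Hyp2 G n) {p : ℕ} (hp : p.Prime) (hp5 : 5 ≤ p) (hpn : p ≤ n) (hnp : n < 2 * p) :
    (Nat.card G).factorization p = 1 := by
  rw [h.fac_odd (by omega)]
  exact factorization_factorial hp hpn hnp

theorem Hyp2.norm (h : Hyp2 G n) {p : ℕ} [hp : Fact p.Prime] (hp5 : 5 ≤ p) (hpn : p ≤ n) (hnp : n < 2 * p)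
    (P : Sylow p G) : 2 * Nat.card (normalizer ((P : Subgroup G) : Set G)) = p * (p - 1) * (n - p).factorial := by
  have h1 := h.syl p hp.out hp5 hpn hnp
  have h2 : Nat.card (Sylow p G) = (normalizer ((P : Subgroup G) : Set G)).index := P.card_eq_index_normalizer
  rw [← h.card, h2, ← (normalizer ((P : Subgroup G) : Set G)).card_mul_index] at h1
  have h3 : 0 < (normalizer ((P : Subgroup G) : Set G)).index :=
    Nat.pos_of_ne_zero Subgroup.index_ne_zero_of_finite
  apply Nat.eq_of_mul_eq_mul_left h3
  rw [h1]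
  ring

/-- the frame, numerically -/
theorem Hyp2.frame (h : Hyp2 G n) {p t : ℕ} (hp : p.Prime) (hp5 : 5 ≤ p) (hpn : p ≤ n) (hnp : n < 2 * p)
    (ht : t.Prime) (htp : t ≠ p) (N : Subgroup G) [N.Normal] (hpN : p ∣ N.index) :
    ∃ b, b ≤ (Nat.card N).factorization t ∧ t ^ b ∣ p * (p - 1) * (n - p).factorial ∧
      p ∣ t ^ ((Nat.card N).factorization t - b) - 1 := by
  have : Fact p.Prime := ⟨hp⟩
  obtain ⟨P, S, hSN, hS, -, hPS⟩ := exists_frame ht htp (h.fac_one hp hp5 hpn hnp) N hpN
  obtain ⟨b, hb, hc, hd⟩ := fixed_modEq ht htp P.2 hS hPS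
  refine ⟨b, hb, ?_, hd⟩
  rw [← h.norm hp5 hpn hnp P, ← hc]
  exact ((Subgroup.card_dvd_of_le inf_le_right).trans
    (Subgroup.card_dvd_of_le (centralizer_le_normalizer _))).mul_left 2

theorem card_eq' (N : Subgroup G) [N.Normal] (M : Subgroup (G ⧸ N)) :
    Nat.card G = Nat.card N * (Nat.card M * M.index) := by
  rw [M.card_mul_index, ← Subgroup.index_eq_card, N.card_mul_index]

/-- the Sylow numbers of the section -/
theorem card_sylow_section {p : ℕ} [hp : Fact p.Prime] (h1 : (Nat.card G).factorization p = 1) (N : Subgroup G)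
    [N.Normal] (M : Subgroup (G ⧸ N)) [M.Normal] (hpM : p ∣ Nat.card M) :
    Nat.card (Sylow p (G ⧸ N)) = Nat.card (Sylow p M) := by
  apply card_sylow_normal
  intro hd
  have h2 : p ^ 2 ∣ Nat.card G := by
    rw [card_eq' N M, pow_two]
    exact (Nat.mul_dvd_mul hpM hd).mul_left _
  have h3 := (hp.out.pow_dvd_iff_le_factorization Nat.card_pos.ne').mp h2
  omega

theorem card_sylow_le {A B : Type*} [Group A] [Finite A] [Group B] [Finite B] {p : ℕ} [Fact p.Prime] (f : A →* B)
    (hf : Function.Bijective f) : Nat.card (Sylow p A) ≤ Nat.card (Sylow p B) := by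
  refine Nat.card_le_card_of_injective (fun P : Sylow p A => P.mapSurjective hf.2) fun P Q h => Sylow.ext ?_
  apply Subgroup.map_injective hf.1
  rw [← Sylow.coe_mapSurjective hf.2, ← Sylow.coe_mapSurjective hf.2]
  exact congrArg Sylow.toSubgroup h

theorem card_sylow_congr {A B : Type*} [Group A] [Finite A] [Group B] [Finite B] {p : ℕ} [Fact p.Prime] (e : A ≃* B) :
    Nat.card (Sylow p A) = Nat.card (Sylow p B) :=
  le_antisymm (card_sylow_le e.toMonoidHom e.bijective) (card_sylow_le e.symm.toMonoidHom e.symm.bijective)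

theorem card_sylow_dvd {H : Type u} [Group H] [Finite H] (p : ℕ) [Fact p.Prime] : Nat.card (Sylow p H) ∣ Nat.card H := by
  obtain ⟨P⟩ : Nonempty (Sylow p H) := inferInstance
  rw [P.card_eq_index_normalizer]
  exact Subgroup.index_dvd_card _

/-- the `t`-part of the Sylow number divides the order of the section -/
theorem section_fac {p t : ℕ} [hp : Fact p.Prime] (ht : t.Prime) (htp : t ≠ p)
    (h1 : (Nat.card G).factorization p = 1) (N : Subgroup G) [N.Normal] (M : Subgroup (G ⧸ N)) [M.Normal]
    (hpM : p ∣ Nat.card M) (hno : ∀ c, 1 ≤ c → c ≤ (Nat.card N).factorization t → ¬ p ∣ t ^ c - 1) :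
    (Nat.card (Sylow p G)).factorization t ≤ (Nat.card M).factorization t := by
  have hpN : p ∣ N.index := by
    rw [Subgroup.index_eq_card, ← M.card_mul_index]
    exact hpM.mul_right _
  rw [factorization_sylow_eq ht htp h1 N hpN hno, card_sylow_section h1 N M hpM]
  exact (Nat.factorization_le_iff_dvd Nat.card_pos.ne' Nat.card_pos.ne').mpr (card_sylow_dvd p) t

/-- the `t`-part of the Sylow number -/
theorem Hyp2.syl_fac (h : Hyp2 G n) {p t : ℕ} (hp : p.Prime) (hp5 : 5 ≤ p) (hpn : p ≤ n) (hnp : n < 2 * p)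
    (hd : ¬ t ∣ p * (p - 1) * (n - p).factorial) :
    (Nat.card (Sylow p G)).factorization t = n.factorial.factorization t := by
  rw [← h.syl p hp hp5 hpn hnp, Nat.factorization_mul Nat.card_pos.ne' ?_, Finsupp.add_apply,
    Nat.factorization_eq_zero_of_not_dvd hd, add_zero]
  exact Nat.mul_ne_zero (Nat.mul_ne_zero (by omega) (by omega)) (Nat.factorial_ne_zero _)

theorem exists_data2 (hn : 11 ≤ n) (h : Hyp2 G n) :
    ∃ (N : Subgroup G) (_ : N.Normal) (M : Subgroup (G ⧸ N)), Data G n N M := by
  obtain ⟨p, s, hp, hs, hnp, hps, hsn⟩ := Cfsg.Agent.H363.TwoPrimes.exists_two_primes' n hn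
  have h1 := h.fac_one hp (by omega) (by omega) hnp
  obtain ⟨N, hN, M, hM, hsimple, hpM, hpN, hcent⟩ := locate hp h1
  have : Fact p.Prime := ⟨hp⟩
  have hall : ∀ q : ℕ, q.Prime → n < 2 * q → q ≤ n → q ∣ Nat.card M := by
    intro q hq hq1 hq2
    by_cases hqp : q = p
    · rw [hqp]; exact hpM
    rw [hq.dvd_iff_one_le_factorization Nat.card_pos.ne']
    have h2 : (Nat.card (Sylow p G)).factorization q = 1 := by
      rw [h.syl_fac hp (by omega) (by omega) hnp, factorization_factorial hq hq2 hq1]
      intro hd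
      rcases hq.dvd_mul.mp hd with hd | hd
      · rcases hq.dvd_mul.mp hd with hd | hd
        · exact hqp ((Nat.prime_dvd_prime_iff_eq hq hp).mp hd)
        · exact not_dvd_sub_one hn hq hp hq1 (by omega) hd
      · rw [hq.dvd_factorial] at hd
        omega
    rw [← h2]
    refine section_fac hq hqp h1 N M hpM fun c hc1 hc2 => ?_
    have h3 : (Nat.card N).factorization q ≤ 1 := by
      have h4 : (Nat.card N).factorization q ≤ (Nat.card G).factorization q :=
        (Nat.factorization_le_iff_dvd Nat.card_pos.ne' Nat.card_pos.ne').mpr (Subgroup.card_subgroup_dvd_card N) q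
      rw [h.fac_one hq (by omega) hq2 hq1] at h4
      exact h4
    have h4 : c = 1 := by omega
    rw [h4, pow_one]
    exact not_dvd_sub_one hn hp hq hnp hq2
  refine ⟨N, hN, M, hM, hsimple, ?_, hcent ?_, hall⟩ <;>
  · intro hcommM
    have hsM : s ∣ Nat.card M := hall s hs (by omega) hsn
    let _ : CommGroup M := { (inferInstance : Group M) with mul_comm := hcommM }
    have hprime : (Nat.card M).Prime := IsSimpleGroup.prime_card
    have h1 := (Nat.prime_dvd_prime_iff_eq hp hprime).mp hpM
    have h2 := (Nat.prime_dvd_prime_iff_eq hs hprime).mp hsM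
    omega

/-- the key estimate for `n ≥ 41` -/
theorem B_aux (h : Hyp2 G n) (hn : 41 ≤ n) {N : Subgroup G} [N.Normal] {M : Subgroup (G ⧸ N)} (D : Data G n N M)
    {p q t : ℕ} (hp : p.Prime) (hq : q.Prime) (ht : t.Prime) (hpq : p ≠ q) (hpn : p ≤ n) (hqn : q ≤ n)
    (hp4 : 4 * n < 5 * p) (hq4 : 4 * n < 5 * q) (h5 : n < 5 * t) (h2t : 2 * t ≤ n) (hnd : ¬ t ∣ p - 1) :
    n / t ≤ (Nat.card M).factorization t := by
  have : Fact p.Prime := ⟨hp⟩
  have hM := D.normal
  have hpM := D.primes p hp (by omega) hpn
  have hqM := D.primes q hq (by omega) hqn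
  have hidx : ∀ r : ℕ, r ∣ Nat.card M → r ∣ N.index := by
    intro r hr
    rw [Subgroup.index_eq_card, ← M.card_mul_index]
    exact hr.mul_right _
  have hnt : n < t * t := by
    have : 5 ≤ t := by omega
    nlinarith
  have hvn : n.factorial.factorization t = n / t := factorial_factorization ht hnt
  have htp : t ≠ p := by omega
  have htq : t ≠ q := by omega
  have hnd' : ¬ t ∣ p * (p - 1) * (n - p).factorial := by
    intro hd
    rcases ht.dvd_mul.mp hd with hd | hd
    · rcases ht.dvd_mul.mp hd with hd | hd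
      · exact htp ((Nat.prime_dvd_prime_iff_eq ht hp).mp hd)
      · exact hnd hd
    · rw [ht.dvd_factorial] at hd
      omega
  rw [← hvn, ← h.syl_fac hp (by omega) hpn (by omega) hnd']
  refine section_fac ht htp (h.fac_one hp (by omega) hpn (by omega)) N M hpM ?_
  -- the action on a Sylow `t`-subgroup of `N`
  have ha4 : (Nat.card N).factorization t * t ≤ n := by
    have e1 : (Nat.card N).factorization t ≤ (Nat.card G).factorization t :=
      (Nat.factorization_le_iff_dvd Nat.card_pos.ne' Nat.card_pos.ne').mpr (Subgroup.card_subgroup_dvd_card N) t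
    have e2 := e1.trans (h.fac_le t)
    rw [hvn] at e2
    calc (Nat.card N).factorization t * t ≤ n / t * t := Nat.mul_le_mul_right t e2
      _ ≤ n := Nat.div_mul_le_self n t
  obtain ⟨b, hb, hb1, hb2⟩ := h.frame hp (by omega) hpn (by omega) ht htp N (hidx p hpM)
  obtain ⟨b', hb', hb1', hb2'⟩ := h.frame hq (by omega) hqn (by omega) ht htq N (hidx q hqM)
  have hb0 : b = 0 := by
    by_contra hne
    exact hnd' ((dvd_pow_self t hne).trans hb1)
  subst hb0
  rw [Nat.sub_zero] at hb2
  have hb1'' : t ^ b' ∣ q - 1 := by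
    have h1 : Nat.Coprime (t ^ b') (n - q).factorial := by
      apply Nat.Coprime.pow_left
      rw [ht.coprime_iff_not_dvd, ht.dvd_factorial]
      omega
    have h2 := h1.dvd_of_dvd_mul_right hb1'
    have h3 : Nat.Coprime (t ^ b') q := by
      apply Nat.Coprime.pow_left
      exact (Nat.coprime_primes ht hq).mpr htq
    exact h3.dvd_of_dvd_mul_left h2
  have hb'1 : b' ≤ 1 := by
    by_contra hlt
    have h1 : t ^ 2 ∣ q - 1 := (pow_dvd_pow t (by omega)).trans hb1''
    have h2 := Nat.le_of_dvd (by omega) h1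
    rw [pow_two] at h2
    omega
  have hcop : p.Coprime q := (Nat.coprime_primes hp hq).2 hpq
  intro c hc1 hc2 hdc
  have ht9 : 9 ≤ t := by omega
  generalize (Nat.card N).factorization t = a at *
  have ha : a ≤ 4 := by
    by_contra hlt
    have : 5 * t ≤ a * t := Nat.mul_le_mul_right t (by omega)
    omega
  obtain ⟨u, rfl⟩ : ∃ u, t = u + 1 := ⟨t - 1, by omega⟩
  have hp0 : ¬ p ∣ u := fun hd => by
    have := Nat.le_of_dvd (by omega) hd
    omega
  have hq0 : ¬ q ∣ u := fun hd => by
    have := Nat.le_of_dvd (by omega) hd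
    omega
  have hp1 : ¬ p ∣ u + 2 := fun hd => by
    have := Nat.le_of_dvd (by omega) hd
    omega
  have hq1 : ¬ q ∣ u + 2 := fun hd => by
    have := Nat.le_of_dvd (by omega) hd
    omega
  have e2 : (u + 1) ^ 2 - 1 = u * (u + 2) := by
    have : (u + 1) ^ 2 = u * (u + 2) + 1 := by ring
    omega
  have e3 : (u + 1) ^ 3 - 1 = u * (u ^ 2 + 3 * u + 3) := by
    have : (u + 1) ^ 3 = u * (u ^ 2 + 3 * u + 3) + 1 := by ring
    omega
  have e4 : (u + 1) ^ 4 - 1 = u * ((u + 2) * (u ^ 2 + 2 * u + 2)) := by
    have : (u + 1) ^ 4 = u * ((u + 2) * (u ^ 2 + 2 * u + 2)) + 1 := by ring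
    omega
  have ha' : a = 0 ∨ a = 1 ∨ a = 2 ∨ a = 3 ∨ a = 4 := by omega
  have hb'' : b' = 0 ∨ b' = 1 := by omega
  rcases ha' with rfl | rfl | rfl | rfl | rfl
  · omega
  · rw [pow_one, Nat.add_sub_cancel] at hb2
    exact hp0 hb2
  · rw [e2] at hb2
    exact hp1 ((hp.dvd_mul.1 hb2).resolve_left hp0)
  · rw [e3] at hb2
    have h6 := (hp.dvd_mul.1 hb2).resolve_left hp0
    rcases hb'' with rfl | rfl
    · rw [Nat.sub_zero, e3] at hb2'
      have h7 := (hq.dvd_mul.1 hb2').resolve_left hq0
      have h8 := Nat.le_of_dvd (by positivity) (hcop.mul_dvd_of_dvd_of_dvd h6 h7)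
      nlinarith
    · rw [show 3 - 1 = 2 by norm_num, e2] at hb2'
      exact hq1 ((hq.dvd_mul.1 hb2').resolve_left hq0)
  · rw [e4] at hb2
    have h6 := ((hp.dvd_mul.1 ((hp.dvd_mul.1 hb2).resolve_left hp0))).resolve_left hp1
    rcases hb'' with rfl | rfl
    · rw [Nat.sub_zero, e4] at hb2'
      have h7 := ((hq.dvd_mul.1 ((hq.dvd_mul.1 hb2').resolve_left hq0))).resolve_left hq1
      have h8 := Nat.le_of_dvd (by positivity) (hcop.mul_dvd_of_dvd_of_dvd h6 h7)
      nlinarith
    · rw [show 4 - 1 = 3 by norm_num, e3] at hb2'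
      have h7 := (hq.dvd_mul.1 hb2').resolve_left hq0
      rw [pow_one] at hb1''
      obtain ⟨d, hd⟩ := hb1''
      have hd4 : d = 4 := by
        have h8 : d < 5 := by
          by_contra hlt
          have : (u + 1) * 5 ≤ (u + 1) * d := Nat.mul_le_mul_left _ (by omega)
          omega
        have h9 : 3 < d := by
          by_contra hlt
          have : (u + 1) * d ≤ (u + 1) * 3 := Nat.mul_le_mul_left _ (by omega)
          omega
        omega
      subst hd4
      have h8 : q = 4 * u + 5 := by omega
      have h9 : 16 * (u ^ 2 + 3 * u + 3) = q * (4 * u + 7) + 13 := by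
        rw [h8]
        ring
      have h10 : q ∣ 13 := by
        have h11 : q ∣ 16 * (u ^ 2 + 3 * u + 3) := h7.mul_left 16
        rw [h9] at h11
        exact (Nat.dvd_add_right (Dvd.intro _ rfl)).mp h11
      have := Nat.le_of_dvd (by norm_num) h10
      omega

theorem B_dvd2 (h : Hyp2 G n) (hn : 41 ≤ n) {N : Subgroup G} [N.Normal] {M : Subgroup (G ⧸ N)} (D : Data G n N M) :
    Cfsg.Agent.H357.Cheb.B n ∣ Nat.card M := by
  refine B_dvd_of Nat.card_pos.ne' fun t ht h5 htn => ?_
  rcases Nat.lt_or_ge n (2 * t) with h2t | h2t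
  · have h1 := D.primes t ht h2t htn
    have h2 : n / t ≤ 1 := by
      rw [← Nat.lt_succ_iff, Nat.div_lt_iff_lt_mul ht.pos]
      exact h2t
    exact h2.trans ((ht.dvd_iff_one_le_factorization Nat.card_pos.ne').mp h1)
  · obtain ⟨r, s, hr, hs, h1, h2, h3⟩ := Cfsg.Agent.H357.NT.two_primes hn
    by_cases hd : t ∣ r - 1
    · refine B_aux h hn D hs hr ht (by omega) h3 (by omega) (by omega) h1 h5 h2t ?_
      intro hd'
      have h4 : t ∣ s - r := by
        have := Nat.dvd_sub hd' hd
        rwa [show s - 1 - (r - 1) = s - r by omega] at this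
      have h5 := Nat.le_of_dvd (by omega) h4
      omega
    · exact B_aux h hn D hr hs ht (by omega) (by omega) h3 h1 (by omega) h5 h2t hd

theorem exists_alt2 (T : OrderTable.{u}) {N : Subgroup G} [N.Normal]
    {M : Subgroup (G ⧸ N)} (D : Data G n N M) (h : Hyp2 G n) (hn : 13 ≤ n) (hk : IsKnownSimple' M) :
    ∃ m, Nonempty (M ≃* alternatingGroup (Fin m)) := by
  have hdvd : Nat.card M ∣ n.factorial := by
    rw [← h.card]
    exact D.card_dvd.mul_left 2
  rcases Nat.lt_or_ge n 41 with h41 | h41
  · have key : ∀ {l : List (ℕ × ℕ)} {b : ℕ} {L : List ℕ}, Cfsg.Agent.H357.Small.chk l b.factorial L = true → n ≤ b →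
        (∀ p ∈ L, p.Prime ∧ b < 2 * p ∧ p ≤ n) → ∃ m, Nonempty (M ≃* alternatingGroup (Fin m)) := by
      intro l b L hchk hnb hL
      refine Cfsg.Agent.H357.Main.of_chk T hk D.nonab hchk (hdvd.trans (Nat.factorial_dvd_factorial hnb)) fun p hp => ?_
      obtain ⟨h1, h2, h3⟩ := hL p hp
      exact D.primes p h1 (by omega) h3
    rcases Nat.lt_or_ge n 17 with h17 | h17
    · refine key (b := 16) (by rw [show Nat.factorial 16 = 20922789888000 by rfl]; exact Cfsg.Agent.H357.Small.chk13) (by omega) ?_
      intro p hp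
      simp only [List.mem_cons, List.not_mem_nil, or_false] at hp
      rcases hp with rfl | rfl <;> exact ⟨by norm_num, by norm_num, by omega⟩
    rcases Nat.lt_or_ge n 19 with h19 | h19
    · refine key (b := 18) (by rw [show Nat.factorial 18 = 6402373705728000 by rfl]; exact Cfsg.Agent.H357.Small.chk17) (by omega) ?_
      intro p hp
      simp only [List.mem_cons, List.not_mem_nil, or_false] at hp
      rcases hp with rfl | rfl | rfl <;> exact ⟨by norm_num, by norm_num, by omega⟩
    rcases Nat.lt_or_ge n 23 with h23 | h23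
    · refine key (b := 22) (by rw [show Nat.factorial 22 = 1124000727777607680000 by rfl]; exact Cfsg.Agent.H357.Small.chk19) (by omega) ?_
      intro p hp
      simp only [List.mem_cons, List.not_mem_nil, or_false] at hp
      rcases hp with rfl | rfl | rfl <;> exact ⟨by norm_num, by norm_num, by omega⟩
    rcases Nat.lt_or_ge n 29 with h29 | h29
    · refine key (b := 28) (by rw [show Nat.factorial 28 = 304888344611713860501504000000 by rfl]; exact Cfsg.Agent.H357.Small.chk23) (by omega) ?_
      intro p hp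
      simp only [List.mem_cons, List.not_mem_nil, or_false] at hp
      rcases hp with rfl | rfl | rfl <;> exact ⟨by norm_num, by norm_num, by omega⟩
    rcases Nat.lt_or_ge n 31 with h31 | h31
    · refine key (b := 30) (by rw [show Nat.factorial 30 = 265252859812191058636308480000000 by rfl]; exact Cfsg.Agent.H357.Small.chk29) (by omega) ?_
      intro p hp
      simp only [List.mem_cons, List.not_mem_nil, or_false] at hp
      rcases hp with rfl | rfl | rfl | rfl <;> exact ⟨by norm_num, by norm_num, by omega⟩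
    rcases Nat.lt_or_ge n 37 with h37 | h37
    · refine key (b := 36) (by rw [show Nat.factorial 36 = 371993326789901217467999448150835200000000 by rfl]; exact Cfsg.Agent.H357.Small.chk31) (by omega) ?_
      intro p hp
      simp only [List.mem_cons, List.not_mem_nil, or_false] at hp
      rcases hp with rfl | rfl | rfl | rfl <;> exact ⟨by norm_num, by norm_num, by omega⟩
    · refine key (b := 40) (by rw [show Nat.factorial 40 = 815915283247897734345611269596115894272000000000 by rfl]; exact Cfsg.Agent.H357.Small.chk37) (by omega) ?_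
      intro p hp
      simp only [List.mem_cons, List.not_mem_nil, or_false] at hp
      rcases hp with rfl | rfl | rfl | rfl <;> exact ⟨by norm_num, by norm_num, by omega⟩
  · obtain ⟨g, hr, ho⟩ := exists_shape T hk D.nonab
    obtain ⟨m, rfl⟩ := Cfsg.Agent.H357.LieBound.arith h41 hdvd (B_dvd2 h h41 D) D.primes ho
    exact ⟨m, hr⟩

/-! ### the degree -/

/-- a prime greater than `4 n / 5` -/
theorem exists_large_prime (hn : 13 ≤ n) : ∃ q : ℕ, q.Prime ∧ q ≤ n ∧ 4 * n < 5 * q := by
  rcases Nat.lt_or_ge n 41 with h | h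
  · rcases Nat.lt_or_ge n 17 with h17 | h17
    · exact ⟨13, by norm_num, by omega, by omega⟩
    rcases Nat.lt_or_ge n 19 with h19 | h19
    · exact ⟨17, by norm_num, by omega, by omega⟩
    rcases Nat.lt_or_ge n 23 with h23 | h23
    · exact ⟨19, by norm_num, by omega, by omega⟩
    rcases Nat.lt_or_ge n 29 with h29 | h29
    · exact ⟨23, by norm_num, by omega, by omega⟩
    rcases Nat.lt_or_ge n 31 with h31 | h31
    · exact ⟨29, by norm_num, by omega, by omega⟩
    rcases Nat.lt_or_ge n 37 with h37 | h37
    · exact ⟨31, by norm_num, by omega, by omega⟩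
    · exact ⟨37, by norm_num, by omega, by omega⟩
  · obtain ⟨r, s, hr, hs, h1, h2, h3⟩ := Cfsg.Agent.H357.NT.two_primes h
    exact ⟨r, hr, by omega, h1⟩

theorem fac_bound {m t : ℕ} (hm : 13 ≤ m) (hmn : m ≤ n) (h4 : 4 * n < 5 * m) (ht : t.Prime) :
    n.factorial.factorization t + 2 < m + m.factorial.factorization t := by
  have h1 := Cfsg.Agent.H357.LieBound.mul_factorization_lt ht (n := n) (by omega)
  rcases Nat.eq_or_lt_of_le ht.two_le with h2 | h2
  · subst h2
    have h3 : m / 2 + m / 4 ≤ m.factorial.factorization 2 := by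
      have h5 : 2 ^ (m / 2) * (m / 2).factorial ∣ m.factorial := by
        have h6 : (2 * (m / 2)).factorial ∣ m.factorial := Nat.factorial_dvd_factorial (by omega)
        refine dvd_trans ?_ h6
        generalize m / 2 = k
        induction k with
        | zero => simp
        | succ k ih =>
          rw [show 2 * (k + 1) = 2 * k + 1 + 1 by ring, Nat.factorial_succ, Nat.factorial_succ, Nat.factorial_succ,
            pow_succ]
          have h7 : 2 ^ k * 2 * ((k + 1) * k.factorial) = (2 * k + 1 + 1) * (2 ^ k * k.factorial) := by ring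
          rw [h7]
          exact Nat.mul_dvd_mul_left _ (ih.mul_left _)
      have h6 : 2 ^ (m / 4) ∣ (m / 2).factorial := by
        have h7 : (2 * (m / 4)).factorial ∣ (m / 2).factorial := Nat.factorial_dvd_factorial (by omega)
        refine dvd_trans ?_ h7
        generalize m / 4 = k
        induction k with
        | zero => simp
        | succ k ih =>
          rw [show 2 * (k + 1) = 2 * k + 1 + 1 by ring, Nat.factorial_succ, Nat.factorial_succ, pow_succ]
          have h8 : 2 ^ k * 2 ∣ (2 * k).factorial * (2 * (k + 1)) := Nat.mul_dvd_mul ih (Dvd.intro _ rfl)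
          refine h8.trans ?_
          have h9 : (2 * k + 1 + 1) * ((2 * k + 1) * (2 * k).factorial) =
            (2 * k).factorial * (2 * (k + 1)) * (2 * k + 1) := by ring
          rw [h9]
          exact Dvd.intro _ rfl
      rw [← (Nat.prime_two).pow_dvd_iff_le_factorization (Nat.factorial_ne_zero _), pow_add]
      exact (Nat.mul_dvd_mul_left _ h6).trans h5
    omega
  · have h3 : 2 * n.factorial.factorization t ≤ (t - 1) * n.factorial.factorization t :=
      Nat.mul_le_mul_right _ (by omega)
    omega

theorem choose_lt {m p : ℕ} (hp : 1 ≤ p) (hpm : p ≤ m) (hmn : m < n) : m.choose p < n.choose p := by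
  have h1 : m.choose p < (m + 1).choose p := by
    obtain ⟨q, rfl⟩ : ∃ q, p = q + 1 := ⟨p - 1, by omega⟩
    rw [Nat.choose_succ_succ']
    have := Nat.choose_pos (n := m) (k := q) (by omega)
    omega
  exact h1.trans_le (Nat.choose_le_choose p hmn)

theorem Data.final2 {N : Subgroup G} [N.Normal] {M : Subgroup (G ⧸ N)} (D : Data G n N M) (h : Hyp2 G n) (hn : 13 ≤ n)
    {m : ℕ} (e : M ≃* alternatingGroup (Fin m)) (hm : 2 * Nat.card M = m.factorial) :
    Nonempty (G ≃* alternatingGroup (Fin n)) := by
  have hMn := D.normal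
  have hcardG := card_eq' N M
  have hMpos : 0 < Nat.card M := Nat.card_pos
  have hmn : m ≤ n := by
    by_contra hlt
    have h1 : (n + 1).factorial ∣ m.factorial := Nat.factorial_dvd_factorial (by omega)
    have h2 : m.factorial ∣ n.factorial := by
      rw [← hm, ← h.card]
      exact Nat.mul_dvd_mul_left 2 D.card_dvd
    have h3 := Nat.le_of_dvd n.factorial_pos (h1.trans h2)
    rw [Nat.factorial_succ] at h3
    have := n.factorial_pos
    nlinarith
  obtain ⟨q, hq, hqn, hq4⟩ := exists_large_prime hn
  have hqm : q ≤ m := by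
    rw [← hq.dvd_factorial, ← hm]
    exact (D.primes q hq (by omega) hqn).mul_left 2
  have hm13 : 13 ≤ m := by
    rcases Nat.lt_or_ge n 26 with h26 | h26
    · rw [← (show Nat.Prime 13 by norm_num).dvd_factorial, ← hm]
      exact (D.primes 13 (by norm_num) (by omega) (by omega)).mul_left 2
    · omega
  -- the Sylow numbers
  have : Fact q.Prime := ⟨hq⟩
  have hqM := D.primes q hq (by omega) hqn
  have hqN : q ∣ N.index := by
    rw [Subgroup.index_eq_card, ← M.card_mul_index]
    exact hqM.mul_right _
  have h1 := h.fac_one hq (by omega) hqn (by omega)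
  have hNm : ∀ t, (Nat.card N).factorization t + m.factorial.factorization t ≤ n.factorial.factorization t := by
    intro t
    have h2 : Nat.card N * m.factorial ∣ n.factorial := by
      rw [← h.card, hcardG, ← hm]
      exact ⟨M.index, by ring⟩
    have h3 := (Nat.factorization_le_iff_dvd (Nat.mul_ne_zero Nat.card_pos.ne' (Nat.factorial_ne_zero _))
      (Nat.factorial_ne_zero _)).mpr h2 t
    rwa [Nat.factorization_mul Nat.card_pos.ne' (Nat.factorial_ne_zero _), Finsupp.add_apply] at h3
  have hsyl : Nat.card (Sylow q G) = Nat.card (Sylow q (G ⧸ N)) := by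
    apply Nat.eq_of_factorization_eq Nat.card_pos.ne' Nat.card_pos.ne'
    intro t
    by_cases ht : t.Prime
    swap
    · rw [Nat.factorization_eq_zero_of_not_prime _ ht, Nat.factorization_eq_zero_of_not_prime _ ht]
    by_cases htq : t = q
    · subst htq
      rw [Nat.factorization_eq_zero_of_not_dvd (not_dvd_card_sylow t G),
        Nat.factorization_eq_zero_of_not_dvd (not_dvd_card_sylow t (G ⧸ N))]
    obtain ⟨P, S, hSN, hS, hfr, hPS⟩ := exists_frame ht htq h1 N hqN
    have hbd := fac_bound hm13 hmn (by omega) ht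
    have := hNm t
    obtain ⟨x, hx, hxo⟩ := exists_centralizing_alt (by omega) e ht hS hfr (by omega) hq hqm
    have hc : Nat.card (zpowers x) = q ^ (Nat.card G).factorization q := by
      rw [h1, pow_one, Nat.card_zpowers, hxo]
    refine factorization_sylow_eq_of ht N (Sylow.ofCard (zpowers x) hc) hSN hS ?_
    rw [Sylow.coe_ofCard, ← le_centralizer_iff, zpowers_le]
    exact hx
  have h2 : Nat.card (Sylow q G) = Nat.card (Sylow q (alternatingGroup (Fin m))) := by
    rw [hsyl, card_sylow_section h1 N M hqM]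
    exact card_sylow_congr e
  have h3 := h.syl q hq (by omega) hqn (by omega)
  have h4 := Alt.card_sylow_alt (n := m) (p := q) (by omega) hqm (by omega)
  have hmn' : m = n := by
    by_contra hne
    have hlt := choose_lt (n := n) hq.one_le hqm (by omega)
    have e1 := Nat.choose_mul_factorial_mul_factorial hqn
    have e2 := Nat.choose_mul_factorial_mul_factorial hqm
    rw [h2] at h3
    have hpos : 0 < (n - q).factorial * (m - q).factorial * q.factorial := by positivity
    have e3 : n.factorial * (m - q).factorial = m.factorial * (n - q).factorial := by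
      rw [← h3, ← h4]
      ring
    rw [← e1, ← e2] at e3
    have e4 : n.choose q * ((n - q).factorial * (m - q).factorial * q.factorial) =
        m.choose q * ((n - q).factorial * (m - q).factorial * q.factorial) := by
      calc _ = n.choose q * q.factorial * (n - q).factorial * (m - q).factorial := by ring
        _ = _ := e3
        _ = _ := by ring
    have := Nat.eq_of_mul_eq_mul_right hpos e4
    omega
  subst hmn'
  have h5 : Nat.card G = Nat.card M := by
    have := h.card
    omega
  have h6 : Nat.card N * M.index = 1 := by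
    apply Nat.eq_of_mul_eq_mul_right hMpos
    calc Nat.card N * M.index * Nat.card M = Nat.card N * (Nat.card M * M.index) := by ring
      _ = Nat.card G := hcardG.symm
      _ = Nat.card M := h5
      _ = 1 * Nat.card M := (one_mul _).symm
  have hN1 : Nat.card N = 1 := Nat.eq_one_of_mul_eq_one_right h6
  have hI1 : M.index = 1 := Nat.eq_one_of_mul_eq_one_left h6
  have htop : M = ⊤ := Subgroup.index_eq_one.mp hI1
  have hsub : Function.Bijective M.subtype := by
    refine ⟨M.subtype_injective, ?_⟩
    intro x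
    exact ⟨⟨x, by rw [htop]; exact mem_top x⟩, rfl⟩
  exact ⟨(equivOf N (Subgroup.card_eq_one.mp hN1)).trans ((MulEquiv.ofBijective M.subtype hsub).symm.trans e)⟩

end Cfsg.Agent.H428.SylNorm
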