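import Mathlib
import Cfsg.Agent.H428.SylNorm.Large
import Cfsg.Agent.S0256
import Cfsg.Agent.S0494
import Cfsg.Agent.S0497
import Cfsg.Agent.S0819

/-!
# Groups with the Sylow numbers of `A_n` for the large primes, `5 ≤ n ≤ 12` (helper428)
-/

set_option autoImplicit false

namespace Cfsg.Agent.H428.SylNorm

open Subgroup Cfsg Cfsg.Agent.OrdDiv Cfsg.Agent.H357.Reduce Cfsg.Agent.H363.AltPrimes

universe u

/-- the check -/
def chkS (l : List (ℕ × ℕ)) (N D : ℕ) (L : List Grp) : Bool :=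
  valid l N && (cands l N).all fun g => decide (g ∈ L) || !(ordN g % D == 0)

theorem chk7 : chkS [(2, 3), (3, 2), (5, 1), (7, 1)] 2520 105 [.alt 7] = true := by decide +kernel
theorem chk8 : chkS [(2, 6), (3, 2), (5, 1), (7, 1)] 20160 105 [.alt 7, .alt 8, .psl 4 2, .psl 3 4] = true := by decide +kernel
theorem chk9 : chkS [(2, 6), (3, 4), (5, 1), (7, 1)] 181440 945 [.alt 9] = true := by decide +kernel
theorem chk10 : chkS [(2, 7), (3, 4), (5, 2), (7, 1)] 1814400 1575 [.alt 10, .j2] = true := by decide +kernel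
theorem chk11 : chkS [(2, 7), (3, 4), (5, 2), (7, 1), (11, 1)] 19958400 3991680 [.alt 11] = true := by decide +kernel
theorem chk12 : chkS [(2, 9), (3, 5), (5, 2), (7, 1), (11, 1)] 239500800 197120 [.alt 12] = true := by decide +kernel
theorem chk6 : chkS [(2, 3), (3, 2), (5, 1)] 360 180 [.alt 6, .psl 2 9] = true := by decide +kernel
theorem chk5 : chkS [(2, 2), (3, 1), (5, 1)] 60 30 [.alt 5, .psl 2 4, .psl 2 5] = true := by decide +kernel

theorem mul_dvd_of {a b c m : ℕ} (hab : Nat.Coprime a b) (hc : a * b = c) (ha : a ∣ m) (hb : b ∣ m) : c ∣ m := by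
  rw [← hc]
  exact Nat.Coprime.mul_dvd_of_dvd_of_dvd hab ha hb

theorem of_chkS (T : OrderTable.{u}) {M : Type u} [Group M] (hk : IsKnownSimple' M)
    (hna : ¬ ∀ a b : M, a * b = b * a) {l : List (ℕ × ℕ)} {N D : ℕ} {L : List Grp} (hchk : chkS l N D L = true)
    (hd : Nat.card M ∣ N) (hD : D ∣ Nat.card M) : ∃ g ∈ L, Real g M ∧ Nat.card M = ordN g := by
  unfold chkS at hchk
  rw [Bool.and_eq_true, List.all_eq_true] at hchk
  obtain ⟨g, hg, hr, ho⟩ := exists_good T hk hna hchk.1 hd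
  have h1 := hchk.2 g hg
  rw [Bool.or_eq_true] at h1
  rcases h1 with h1 | h1
  · exact ⟨g, of_decide_eq_true h1, hr, ho⟩
  · exfalso
    rw [Bool.not_eq_true', ← ho] at h1
    have h2 := Nat.mod_eq_zero_of_dvd hD
    rw [h2] at h1
    exact absurd h1 (by simp)

variable {G : Type u} [Group G] [Finite G] {n : ℕ}

theorem sec_dvd {p t k B : ℕ} [hp : Fact p.Prime] (ht : t.Prime) (htp : t ≠ p)
    (h1 : (Nat.card G).factorization p = 1) (N : Subgroup G) [N.Normal] (M : Subgroup (G ⧸ N)) [M.Normal]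
    (hpM : p ∣ Nat.card M) (hk : t ^ k ∣ Nat.card (Sylow p G)) (hB : ¬ t ^ (B + 1) ∣ Nat.card N)
    (hno : ∀ c, 1 ≤ c → c ≤ B → ¬ p ∣ t ^ c - 1) : t ^ k ∣ Nat.card M := by
  rw [ht.pow_dvd_iff_le_factorization Nat.card_pos.ne'] at hk ⊢
  refine hk.trans (section_fac ht htp h1 N M hpM fun c hc1 hc2 => hno c hc1 ?_)
  by_contra hlt
  exact hB ((ht.pow_dvd_iff_le_factorization Nat.card_pos.ne').mpr (by omega))

theorem iso_of_card (N : Subgroup G) [N.Normal] (M : Subgroup (G ⧸ N)) (hc : Nat.card M = Nat.card G) :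
    Nonempty (G ≃* M) := by
  have hMpos : 0 < Nat.card M := Nat.card_pos
  have h6 : Nat.card N * M.index = 1 := by
    apply Nat.eq_of_mul_eq_mul_right hMpos
    calc Nat.card N * M.index * Nat.card M = Nat.card N * (Nat.card M * M.index) := by ring
      _ = Nat.card G := (card_eq' N M).symm
      _ = Nat.card M := hc.symm
      _ = 1 * Nat.card M := (one_mul _).symm
  have hN1 : Nat.card N = 1 := Nat.eq_one_of_mul_eq_one_right h6
  have hI1 : M.index = 1 := Nat.eq_one_of_mul_eq_one_left h6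
  have htop : M = ⊤ := Subgroup.index_eq_one.mp hI1
  have hsub : Function.Bijective M.subtype := by
    refine ⟨M.subtype_injective, ?_⟩
    intro x
    exact ⟨⟨x, by rw [htop]; exact mem_top x⟩, rfl⟩
  exact ⟨(equivOf N (Subgroup.card_eq_one.mp hN1)).trans (MulEquiv.ofBijective M.subtype hsub).symm⟩

/-- the data for a prime `p > n / 2`; `q` another prime dividing the order of the section -/
theorem small_data (h : Hyp2 G n) {p : ℕ} [hp : Fact p.Prime] (hp5 : 5 ≤ p) (hpn : p ≤ n) (hnp : n < 2 * p) {q : ℕ}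
    (hq : q.Prime) (hqp : q ≠ p) (hqd : q ^ 1 ∣ Nat.card (Sylow p G)) {B : ℕ} (hB : ¬ q ^ (B + 1) ∣ Nat.card G)
    (hno : ∀ c, 1 ≤ c → c ≤ B → ¬ p ∣ q ^ c - 1) :
    ∃ (N : Subgroup G) (_ : N.Normal) (M : Subgroup (G ⧸ N)) (_ : M.Normal), IsSimpleGroup M ∧ p ∣ Nat.card M ∧
      (¬ ∀ a b : M, a * b = b * a) ∧ centralizer (M : Set (G ⧸ N)) = ⊥ ∧ Nat.card M ∣ Nat.card G ∧
      (∀ t k B : ℕ, t.Prime → t ≠ p → t ^ k ∣ Nat.card (Sylow p G) → ¬ t ^ (B + 1) ∣ Nat.card G →
        (∀ c, 1 ≤ c → c ≤ B → ¬ p ∣ t ^ c - 1) → t ^ k ∣ Nat.card M) := by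
  have h1 := h.fac_one hp.out hp5 hpn hnp
  obtain ⟨N, hN, M, hM, hsimple, hpM, hpN, hcent⟩ := locate hp.out h1
  have key : ∀ t k B : ℕ, t.Prime → t ≠ p → t ^ k ∣ Nat.card (Sylow p G) → ¬ t ^ (B + 1) ∣ Nat.card G →
      (∀ c, 1 ≤ c → c ≤ B → ¬ p ∣ t ^ c - 1) → t ^ k ∣ Nat.card M := by
    intro t k B ht htp hk hB hno
    exact sec_dvd ht htp h1 N M hpM hk (fun h2 => hB (h2.trans (Subgroup.card_subgroup_dvd_card N))) hno
  have hna : ¬ ∀ a b : M, a * b = b * a := by
    intro hcommM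
    let _ : CommGroup M := { (inferInstance : Group M) with mul_comm := hcommM }
    have hprime : (Nat.card M).Prime := IsSimpleGroup.prime_card
    have h2 := key q 1 B hq hqp hqd hB hno
    rw [pow_one] at h2
    have h3 := (Nat.prime_dvd_prime_iff_eq hp.out hprime).mp hpM
    have h4 := (Nat.prime_dvd_prime_iff_eq hq hprime).mp h2
    exact hqp (h4.trans h3.symm)
  refine ⟨N, hN, M, hM, hsimple, hpM, hna, hcent hna, ?_, key⟩
  rw [card_eq' N M]
  exact (Nat.dvd_mul_right _ _).mul_left _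

theorem case7 (T : OrderTable.{u}) (h : Hyp2 G 7)
    (hcl : ∀ (S : Type u) [Group S] [Finite S] [IsSimpleGroup S], IsKnownSimple' S) :
    Nonempty (G ≃* alternatingGroup (Fin 7)) := by
  have : Fact (Nat.Prime 7) := ⟨by norm_num⟩
  have hG : Nat.card G = 2520 := by
    have h0 : 2 * Nat.card G = 5040 := h.card.trans (by decide +kernel)
    omega
  have hs : Nat.card (Sylow 7 G) = 120 := by
    have h0 : Nat.card (Sylow 7 G) * 42 = 5040 := by
      have h1 := h.syl 7 (by norm_num) (by norm_num) (by norm_num) (by norm_num)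
      rw [show Nat.factorial 7 = 5040 by decide +kernel, show 7 * (7 - 1) * Nat.factorial (7 - 7) = 42 by decide +kernel] at h1
      exact h1
    omega
  have h3 : ∀ c, 1 ≤ c → c ≤ 2 → ¬ 7 ∣ 3 ^ c - 1 := by intro c h1 h2; interval_cases c <;> norm_num
  have h5 : ∀ c, 1 ≤ c → c ≤ 1 → ¬ 7 ∣ 5 ^ c - 1 := by intro c h1 h2; interval_cases c <;> norm_num
  obtain ⟨N, hN, M, hM, hsimple, hpM, hna, hcent, hMG, key⟩ := small_data h (p := 7) (by norm_num) (by norm_num)
    (by norm_num) (q := 3) (B := 2) (by norm_num) (by norm_num) (by rw [hs]; norm_num) (by rw [hG]; norm_num) h3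
  have k3 := key 3 1 2 (by norm_num) (by norm_num) (by rw [hs]; norm_num) (by rw [hG]; norm_num) h3
  have k5 := key 5 1 1 (by norm_num) (by norm_num) (by rw [hs]; norm_num) (by rw [hG]; norm_num) h5
  have hD : 105 ∣ Nat.card M := (mul_dvd_of (a := 21) (b := 5 ^ 1) (c := 105) (by norm_num) (by norm_num) (mul_dvd_of (a := 7) (b := 3 ^ 1) (c := 21) (by norm_num) (by norm_num) hpM k3) k5)
  rw [hG] at hMG
  obtain ⟨g, hg, hr, ho⟩ := of_chkS T (hcl M) hna chk7 hMG hD
  simp only [List.mem_cons, List.not_mem_nil, or_false] at hg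
  subst hg
  obtain ⟨e⟩ := hr
  obtain ⟨f⟩ := iso_of_card N M (by rw [ho, hG]; decide +kernel)
  exact ⟨f.trans e⟩

theorem case9 (T : OrderTable.{u}) (h : Hyp2 G 9)
    (hcl : ∀ (S : Type u) [Group S] [Finite S] [IsSimpleGroup S], IsKnownSimple' S) :
    Nonempty (G ≃* alternatingGroup (Fin 9)) := by
  have : Fact (Nat.Prime 7) := ⟨by norm_num⟩
  have hG : Nat.card G = 181440 := by
    have h0 : 2 * Nat.card G = 362880 := h.card.trans (by decide +kernel)
    omega
  have hs : Nat.card (Sylow 7 G) = 4320 := by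
    have h0 : Nat.card (Sylow 7 G) * 84 = 362880 := by
      have h1 := h.syl 7 (by norm_num) (by norm_num) (by norm_num) (by norm_num)
      rw [show Nat.factorial 9 = 362880 by decide +kernel, show 7 * (7 - 1) * Nat.factorial (9 - 7) = 84 by decide +kernel] at h1
      exact h1
    omega
  have h3 : ∀ c, 1 ≤ c → c ≤ 4 → ¬ 7 ∣ 3 ^ c - 1 := by intro c h1 h2; interval_cases c <;> norm_num
  have h5 : ∀ c, 1 ≤ c → c ≤ 1 → ¬ 7 ∣ 5 ^ c - 1 := by intro c h1 h2; interval_cases c <;> norm_num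
  obtain ⟨N, hN, M, hM, hsimple, hpM, hna, hcent, hMG, key⟩ := small_data h (p := 7) (by norm_num) (by norm_num)
    (by norm_num) (q := 3) (B := 4) (by norm_num) (by norm_num) (by rw [hs]; norm_num) (by rw [hG]; norm_num) h3
  have k3 := key 3 3 4 (by norm_num) (by norm_num) (by rw [hs]; norm_num) (by rw [hG]; norm_num) h3
  have k5 := key 5 1 1 (by norm_num) (by norm_num) (by rw [hs]; norm_num) (by rw [hG]; norm_num) h5
  have hD : 945 ∣ Nat.card M := (mul_dvd_of (a := 189) (b := 5 ^ 1) (c := 945) (by norm_num) (by norm_num) (mul_dvd_of (a := 7) (b := 3 ^ 3) (c := 189) (by norm_num) (by norm_num) hpM k3) k5)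
  rw [hG] at hMG
  obtain ⟨g, hg, hr, ho⟩ := of_chkS T (hcl M) hna chk9 hMG hD
  simp only [List.mem_cons, List.not_mem_nil, or_false] at hg
  subst hg
  obtain ⟨e⟩ := hr
  obtain ⟨f⟩ := iso_of_card N M (by rw [ho, hG]; decide +kernel)
  exact ⟨f.trans e⟩

theorem case11 (T : OrderTable.{u}) (h : Hyp2 G 11)
    (hcl : ∀ (S : Type u) [Group S] [Finite S] [IsSimpleGroup S], IsKnownSimple' S) :
    Nonempty (G ≃* alternatingGroup (Fin 11)) := by
  have : Fact (Nat.Prime 11) := ⟨by norm_num⟩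
  have hG : Nat.card G = 19958400 := by
    have h0 : 2 * Nat.card G = 39916800 := h.card.trans (by decide +kernel)
    omega
  have hs : Nat.card (Sylow 11 G) = 362880 := by
    have h0 : Nat.card (Sylow 11 G) * 110 = 39916800 := by
      have h1 := h.syl 11 (by norm_num) (by norm_num) (by norm_num) (by norm_num)
      rw [show Nat.factorial 11 = 39916800 by decide +kernel, show 11 * (11 - 1) * Nat.factorial (11 - 11) = 110 by decide +kernel] at h1
      exact h1
    omega
  have h2 : ∀ c, 1 ≤ c → c ≤ 7 → ¬ 11 ∣ 2 ^ c - 1 := by intro c h1 h2; interval_cases c <;> norm_num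
  have h3 : ∀ c, 1 ≤ c → c ≤ 4 → ¬ 11 ∣ 3 ^ c - 1 := by intro c h1 h2; interval_cases c <;> norm_num
  have h5 : ∀ c, 1 ≤ c → c ≤ 2 → ¬ 11 ∣ 5 ^ c - 1 := by intro c h1 h2; interval_cases c <;> norm_num
  have h7 : ∀ c, 1 ≤ c → c ≤ 1 → ¬ 11 ∣ 7 ^ c - 1 := by intro c h1 h2; interval_cases c <;> norm_num
  obtain ⟨N, hN, M, hM, hsimple, hpM, hna, hcent, hMG, key⟩ := small_data h (p := 11) (by norm_num) (by norm_num)
    (by norm_num) (q := 2) (B := 7) (by norm_num) (by norm_num) (by rw [hs]; norm_num) (by rw [hG]; norm_num) h2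
  have k2 := key 2 7 7 (by norm_num) (by norm_num) (by rw [hs]; norm_num) (by rw [hG]; norm_num) h2
  have k3 := key 3 4 4 (by norm_num) (by norm_num) (by rw [hs]; norm_num) (by rw [hG]; norm_num) h3
  have k5 := key 5 1 2 (by norm_num) (by norm_num) (by rw [hs]; norm_num) (by rw [hG]; norm_num) h5
  have k7 := key 7 1 1 (by norm_num) (by norm_num) (by rw [hs]; norm_num) (by rw [hG]; norm_num) h7
  have hD : 3991680 ∣ Nat.card M := (mul_dvd_of (a := 570240) (b := 7 ^ 1) (c := 3991680) (by norm_num) (by norm_num) (mul_dvd_of (a := 114048) (b := 5 ^ 1) (c := 570240) (by norm_num) (by norm_num) (mul_dvd_of (a := 1408) (b := 3 ^ 4) (c := 114048) (by norm_num) (by norm_num) (mul_dvd_of (a := 11) (b := 2 ^ 7) (c := 1408) (by norm_num) (by norm_num) hpM k2) k3) k5) k7)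
  rw [hG] at hMG
  obtain ⟨g, hg, hr, ho⟩ := of_chkS T (hcl M) hna chk11 hMG hD
  simp only [List.mem_cons, List.not_mem_nil, or_false] at hg
  subst hg
  obtain ⟨e⟩ := hr
  obtain ⟨f⟩ := iso_of_card N M (by rw [ho, hG]; decide +kernel)
  exact ⟨f.trans e⟩

theorem case12 (T : OrderTable.{u}) (h : Hyp2 G 12)
    (hcl : ∀ (S : Type u) [Group S] [Finite S] [IsSimpleGroup S], IsKnownSimple' S) :
    Nonempty (G ≃* alternatingGroup (Fin 12)) := by
  have : Fact (Nat.Prime 11) := ⟨by norm_num⟩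
  have hG : Nat.card G = 239500800 := by
    have h0 : 2 * Nat.card G = 479001600 := h.card.trans (by decide +kernel)
    omega
  have hs : Nat.card (Sylow 11 G) = 4354560 := by
    have h0 : Nat.card (Sylow 11 G) * 110 = 479001600 := by
      have h1 := h.syl 11 (by norm_num) (by norm_num) (by norm_num) (by norm_num)
      rw [show Nat.factorial 12 = 479001600 by decide +kernel, show 11 * (11 - 1) * Nat.factorial (12 - 11) = 110 by decide +kernel] at h1
      exact h1
    omega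
  have h2 : ∀ c, 1 ≤ c → c ≤ 9 → ¬ 11 ∣ 2 ^ c - 1 := by intro c h1 h2; interval_cases c <;> norm_num
  have h5 : ∀ c, 1 ≤ c → c ≤ 2 → ¬ 11 ∣ 5 ^ c - 1 := by intro c h1 h2; interval_cases c <;> norm_num
  have h7 : ∀ c, 1 ≤ c → c ≤ 1 → ¬ 11 ∣ 7 ^ c - 1 := by intro c h1 h2; interval_cases c <;> norm_num
  obtain ⟨N, hN, M, hM, hsimple, hpM, hna, hcent, hMG, key⟩ := small_data h (p := 11) (by norm_num) (by norm_num)
    (by norm_num) (q := 2) (B := 9) (by norm_num) (by norm_num) (by rw [hs]; norm_num) (by rw [hG]; norm_num) h2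
  have k2 := key 2 9 9 (by norm_num) (by norm_num) (by rw [hs]; norm_num) (by rw [hG]; norm_num) h2
  have k5 := key 5 1 2 (by norm_num) (by norm_num) (by rw [hs]; norm_num) (by rw [hG]; norm_num) h5
  have k7 := key 7 1 1 (by norm_num) (by norm_num) (by rw [hs]; norm_num) (by rw [hG]; norm_num) h7
  have hD : 197120 ∣ Nat.card M := (mul_dvd_of (a := 28160) (b := 7 ^ 1) (c := 197120) (by norm_num) (by norm_num) (mul_dvd_of (a := 5632) (b := 5 ^ 1) (c := 28160) (by norm_num) (by norm_num) (mul_dvd_of (a := 11) (b := 2 ^ 9) (c := 5632) (by norm_num) (by norm_num) hpM k2) k5) k7)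
  rw [hG] at hMG
  obtain ⟨g, hg, hr, ho⟩ := of_chkS T (hcl M) hna chk12 hMG hD
  simp only [List.mem_cons, List.not_mem_nil, or_false] at hg
  subst hg
  obtain ⟨e⟩ := hr
  obtain ⟨f⟩ := iso_of_card N M (by rw [ho, hG]; decide +kernel)
  exact ⟨f.trans e⟩

theorem case5 (T : OrderTable.{u}) (h : Hyp2 G 5)
    (hcl : ∀ (S : Type u) [Group S] [Finite S] [IsSimpleGroup S], IsKnownSimple' S) :
    Nonempty (G ≃* alternatingGroup (Fin 5)) := by
  have : Fact (Nat.Prime 5) := ⟨by norm_num⟩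
  have hG : Nat.card G = 60 := by
    have h0 : 2 * Nat.card G = 120 := h.card.trans (by decide +kernel)
    omega
  have hs : Nat.card (Sylow 5 G) = 6 := by
    have h0 : Nat.card (Sylow 5 G) * 20 = 120 := by
      have h1 := h.syl 5 (by norm_num) (by norm_num) (by norm_num) (by norm_num)
      rw [show Nat.factorial 5 = 120 by decide +kernel, show 5 * (5 - 1) * Nat.factorial (5 - 5) = 20 by decide +kernel] at h1
      exact h1
    omega
  have h2 : ∀ c, 1 ≤ c → c ≤ 2 → ¬ 5 ∣ 2 ^ c - 1 := by intro c h1 h2; interval_cases c <;> norm_num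
  have h3 : ∀ c, 1 ≤ c → c ≤ 1 → ¬ 5 ∣ 3 ^ c - 1 := by intro c h1 h2; interval_cases c <;> norm_num
  obtain ⟨N, hN, M, hM, hsimple, hpM, hna, hcent, hMG, key⟩ := small_data h (p := 5) (by norm_num) (by norm_num)
    (by norm_num) (q := 2) (B := 2) (by norm_num) (by norm_num) (by rw [hs]; norm_num) (by rw [hG]; norm_num) h2
  have k2 := key 2 1 2 (by norm_num) (by norm_num) (by rw [hs]; norm_num) (by rw [hG]; norm_num) h2
  have k3 := key 3 1 1 (by norm_num) (by norm_num) (by rw [hs]; norm_num) (by rw [hG]; norm_num) h3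
  have hD : 30 ∣ Nat.card M := (mul_dvd_of (a := 10) (b := 3 ^ 1) (c := 30) (by norm_num) (by norm_num) (mul_dvd_of (a := 5) (b := 2 ^ 1) (c := 10) (by norm_num) (by norm_num) hpM k2) k3)
  rw [hG] at hMG
  obtain ⟨g, hg, hr, ho⟩ := of_chkS T (hcl M) hna chk5 hMG hD
  simp only [List.mem_cons, List.not_mem_nil, or_false] at hg
  have hM60 : Nat.card M = 60 := by
    rw [ho]
    rcases hg with rfl | rfl | rfl <;> decide +kernel
  obtain ⟨e⟩ := S0494.result hM60
  obtain ⟨f⟩ := iso_of_card N M (by rw [hM60, hG])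
  exact ⟨f.trans e⟩

theorem case6 (T : OrderTable.{u}) (h : Hyp2 G 6)
    (hcl : ∀ (S : Type u) [Group S] [Finite S] [IsSimpleGroup S], IsKnownSimple' S) :
    Nonempty (G ≃* alternatingGroup (Fin 6)) := by
  have : Fact (Nat.Prime 5) := ⟨by norm_num⟩
  have hG : Nat.card G = 360 := by
    have h0 : 2 * Nat.card G = 720 := h.card.trans (by decide +kernel)
    omega
  have hs : Nat.card (Sylow 5 G) = 36 := by
    have h0 : Nat.card (Sylow 5 G) * 20 = 720 := by
      have h1 := h.syl 5 (by norm_num) (by norm_num) (by norm_num) (by norm_num)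
      rw [show Nat.factorial 6 = 720 by decide +kernel, show 5 * (5 - 1) * Nat.factorial (6 - 5) = 20 by decide +kernel] at h1
      exact h1
    omega
  have h2 : ∀ c, 1 ≤ c → c ≤ 3 → ¬ 5 ∣ 2 ^ c - 1 := by intro c h1 h2; interval_cases c <;> norm_num
  have h3 : ∀ c, 1 ≤ c → c ≤ 2 → ¬ 5 ∣ 3 ^ c - 1 := by intro c h1 h2; interval_cases c <;> norm_num
  obtain ⟨N, hN, M, hM, hsimple, hpM, hna, hcent, hMG, key⟩ := small_data h (p := 5) (by norm_num) (by norm_num)
    (by norm_num) (q := 2) (B := 3) (by norm_num) (by norm_num) (by rw [hs]; norm_num) (by rw [hG]; norm_num) h2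
  have k2 := key 2 2 3 (by norm_num) (by norm_num) (by rw [hs]; norm_num) (by rw [hG]; norm_num) h2
  have k3 := key 3 2 2 (by norm_num) (by norm_num) (by rw [hs]; norm_num) (by rw [hG]; norm_num) h3
  have hD : 180 ∣ Nat.card M := (mul_dvd_of (a := 20) (b := 3 ^ 2) (c := 180) (by norm_num) (by norm_num) (mul_dvd_of (a := 5) (b := 2 ^ 2) (c := 20) (by norm_num) (by norm_num) hpM k2) k3)
  rw [hG] at hMG
  obtain ⟨g, hg, hr, ho⟩ := of_chkS T (hcl M) hna chk6 hMG hD
  simp only [List.mem_cons, List.not_mem_nil, or_false] at hg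
  have hM60 : Nat.card M = 360 := by
    rw [ho]
    rcases hg with rfl | rfl <;> decide +kernel
  obtain ⟨e⟩ := S0497.result hM60
  obtain ⟨f⟩ := iso_of_card N M (by rw [hM60, hG])
  exact ⟨f.trans e⟩

end Cfsg.Agent.H428.SylNorm
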