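import Mathlib
import Cfsg.Agent.H428.SylNorm.Small

/-!
# Groups with the Sylow numbers of `A_8` (helper428)
-/

set_option autoImplicit false

namespace Cfsg.Agent.H428.SylNorm

open Subgroup Cfsg Cfsg.Agent.OrdDiv Cfsg.Agent.H357.Reduce Cfsg.Agent.H363.AltPrimes

universe u

variable {G : Type u} [Group G] [Finite G] {n : ℕ}

/-- the normalizer modulo the centralizer of a subgroup of prime order -/
theorem card_normalizer_dvd {p : ℕ} (hp : p.Prime) {P : Subgroup G} (hP : Nat.card P = p) :
    Nat.card (normalizer (P : Set G)) ∣ Nat.card (centralizer (P : Set G)) * (p - 1) := by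
  have : Fact p.Prime := ⟨hp⟩
  have : IsCyclic P := isCyclic_of_prime_card hP
  have h1 := (P.normalizerMonoidHom).ker.card_mul_index
  rw [Subgroup.index_ker, normalizerMonoidHom_ker] at h1
  have h2 : Nat.card ((centralizer (P : Set G)).subgroupOf (normalizer (P : Set G))) =
      Nat.card (centralizer (P : Set G)) :=
    Nat.card_congr (Subgroup.subgroupOfEquivOfLe (centralizer_le_normalizer _)).toEquiv
  have h3 : Nat.card P.normalizerMonoidHom.range ∣ p - 1 := by
    have h4 := Subgroup.card_subgroup_dvd_card P.normalizerMonoidHom.range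
    rwa [IsCyclic.card_mulAut, hP, Nat.totient_prime hp] at h4
  rw [← h1, h2]
  exact Nat.mul_dvd_mul_left _ h3

theorem case8 (T : OrderTable.{u}) (h : Hyp2 G 8)
    (hcl : ∀ (S : Type u) [Group S] [Finite S] [IsSimpleGroup S], IsKnownSimple' S) :
    Nonempty (G ≃* alternatingGroup (Fin 8)) := by
  have : Fact (Nat.Prime 7) := ⟨by norm_num⟩
  have : Fact (Nat.Prime 5) := ⟨by norm_num⟩
  have hG : Nat.card G = 20160 := by
    have h0 : 2 * Nat.card G = 40320 := h.card.trans (by decide +kernel)
    omega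
  have hs : Nat.card (Sylow 7 G) = 960 := by
    have h0 : Nat.card (Sylow 7 G) * 42 = 40320 := by
      have h1 := h.syl 7 (by norm_num) (by norm_num) (by norm_num) (by norm_num)
      rw [show Nat.factorial 8 = 40320 by decide +kernel, show 7 * (7 - 1) * Nat.factorial (8 - 7) = 42 by decide +kernel] at h1
      exact h1
    omega
  have hs5 : Nat.card (Sylow 5 G) = 336 := by
    have h0 : Nat.card (Sylow 5 G) * 120 = 40320 := by
      have h1 := h.syl 5 (by norm_num) (by norm_num) (by norm_num) (by norm_num)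
      rw [show Nat.factorial 8 = 40320 by decide +kernel, show 5 * (5 - 1) * Nat.factorial (8 - 5) = 120 by decide +kernel] at h1
      exact h1
    omega
  have h3 : ∀ c, 1 ≤ c → c ≤ 2 → ¬ 7 ∣ 3 ^ c - 1 := by intro c h1 h2; interval_cases c <;> norm_num
  have h5 : ∀ c, 1 ≤ c → c ≤ 1 → ¬ 7 ∣ 5 ^ c - 1 := by intro c h1 h2; interval_cases c; norm_num
  obtain ⟨N, hN, M, hM, hsimple, hpM, hna, hcent, hMG, key⟩ := small_data h (p := 7) (by norm_num) (by norm_num)
    (by norm_num) (q := 3) (B := 2) (by norm_num) (by norm_num) (by rw [hs]; norm_num) (by rw [hG]; norm_num) h3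
  have k3 := key 3 1 2 (by norm_num) (by norm_num) (by rw [hs]; norm_num) (by rw [hG]; norm_num) h3
  have k5 := key 5 1 1 (by norm_num) (by norm_num) (by rw [hs]; norm_num) (by rw [hG]; norm_num) h5
  have hD : 105 ∣ Nat.card M := (mul_dvd_of (a := 21) (b := 5 ^ 1) (c := 105) (by norm_num) (by norm_num)
    (mul_dvd_of (a := 7) (b := 3 ^ 1) (c := 21) (by norm_num) (by norm_num) hpM k3) k5)
  rw [hG] at hMG
  obtain ⟨g, hg, hr, ho⟩ := of_chkS T (hcl M) hna chk8 hMG hD
  simp only [List.mem_cons, List.not_mem_nil, or_false] at hg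
  have h1 := h.fac_one (p := 5) (by norm_num) (by norm_num) (by norm_num) (by norm_num)
  have hcG := card_eq' N M
  rcases hg with rfl | rfl | rfl | rfl
  · -- `A_7`
    exfalso
    have hM7 : Nat.card M = 2520 := by rw [ho]; decide +kernel
    have h16 : 2 ^ 4 ∣ Nat.card M := by
      refine sec_dvd (p := 5) (B := 3) (by norm_num) (by norm_num) h1 N M (by rw [hM7]; norm_num) (by rw [hs5]; norm_num)
        ?_ (by intro c h1 h2; interval_cases c <;> norm_num)
      intro h2
      rw [hG, hM7] at hcG
      have h3 : Nat.card N ∣ 8 := ⟨M.index, by nlinarith⟩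
      have h4 := Nat.le_of_dvd (by norm_num) (h2.trans h3)
      norm_num at h4
    rw [hM7] at h16
    norm_num at h16
  · obtain ⟨e⟩ := hr
    obtain ⟨f⟩ := iso_of_card N M (by rw [ho, hG]; decide +kernel)
    exact ⟨f.trans e⟩
  · obtain ⟨F, _, _, hF, ⟨e⟩⟩ := hr
    obtain ⟨f⟩ := iso_of_card N M (by rw [ho, hG]; decide +kernel)
    obtain ⟨e'⟩ := S0256.result hF
    exact ⟨(f.trans e).trans e'⟩
  · exfalso
    obtain ⟨F, _, _, hF, ⟨e⟩⟩ := hr
    obtain ⟨f⟩ := iso_of_card N M (by rw [ho, hG]; decide +kernel)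
    obtain ⟨P⟩ : Nonempty (Sylow 5 G) := inferInstance
    have hP : Nat.card (P : Subgroup G) = 5 := by
      rw [P.card_eq_multiplicity, h1, pow_one]
    have h2 : 2 * Nat.card (normalizer ((P : Subgroup G) : Set G)) = 120 := by
      rw [h.norm (p := 5) (by norm_num) (by norm_num) (by norm_num) P]
      decide +kernel
    have h3 := card_normalizer_dvd (by norm_num) hP
    have h4 : 3 ∣ Nat.card (centralizer ((P : Subgroup G) : Set G)) := by
      have h5 : Nat.card (normalizer ((P : Subgroup G) : Set G)) = 60 := by omega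
      rw [h5] at h3
      omega
    have : Fact (Nat.Prime 3) := ⟨by norm_num⟩
    obtain ⟨y, hy⟩ := exists_prime_orderOf_dvd_card' 3 h4
    obtain ⟨x, hx⟩ := exists_prime_orderOf_dvd_card' (G := (P : Subgroup G)) 5 (by rw [hP])
    have h5 : Commute (x : G) (y : G) := mem_centralizer_iff.mp y.2 x x.2
    have h6 : orderOf ((x : G) * (y : G)) = 15 := by
      have hx' : orderOf (x : G) = 5 := by rw [Subgroup.orderOf_coe, hx]
      have hy' : orderOf (y : G) = 3 := by rw [Subgroup.orderOf_coe, hy]
      rw [h5.orderOf_mul_eq_mul_orderOf_of_coprime (by rw [hx', hy']; norm_num), hx', hy']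
    apply S0819.result hF ((f.trans e) ((x : G) * y))
    rw [← h6]
    exact orderOf_injective (f.trans e).toMonoidHom (f.trans e).injective _

end Cfsg.Agent.H428.SylNorm
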