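import Mathlib
import Cfsg.Agent.H428.SylNorm.Eight

/-!
# Groups with the Sylow numbers of `A_10` (helper428)
-/

set_option autoImplicit false

namespace Cfsg.Agent.H428.SylNorm

open Equiv Equiv.Perm Subgroup Cfsg Cfsg.Agent.OrdDiv Cfsg.Agent.H357.Reduce Cfsg.Agent.H363.AltPrimes Alt

universe u

/-- an element of order 3 does not normalize a Sylow 5-subgroup of `S_10` -/
theorem core10 {Q : Subgroup (Perm (Fin 10))} (hQ : Nat.card Q = 5 ^ 2) {g : Perm (Fin 10)} (hg : orderOf g = 3)
    (hgQ : g ∈ normalizer (Q : Set (Perm (Fin 10)))) : False := by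
  classical
  have : Fact (Nat.Prime 5) := ⟨by norm_num⟩
  have : Fact (Nat.Prime 3) := ⟨by norm_num⟩
  have hQ5 : IsPGroup 5 Q := IsPGroup.of_card hQ
  have hcomm : ∀ a ∈ Q, ∀ b ∈ Q, a * b = b * a := fun a ha b hb =>
    congrArg Subtype.val ((IsPGroup.isMulCommutative_of_card_eq_prime_sq hQ).is_comm.comm (⟨a, ha⟩ : Q) ⟨b, hb⟩)
  have hself : ∀ (H : Subgroup (Perm (Fin 10))) (y : Fin 10), y ∈ orbF H y := fun H y =>
    mem_orbF.mpr ⟨1, one_mem _, rfl⟩
  have horb : ∀ y z : Fin 10, z ∈ orbF Q y → orbF Q z = orbF Q y := by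
    intro y z hz
    obtain ⟨h, hh, rfl⟩ := mem_orbF.mp hz
    ext z
    rw [mem_orbF, mem_orbF]
    constructor
    · rintro ⟨u, hu, rfl⟩
      exact ⟨u * h, mul_mem hu hh, rfl⟩
    · rintro ⟨u, hu, rfl⟩
      exact ⟨u * h⁻¹, mul_mem hu (inv_mem hh), by rw [Perm.mul_apply, inv_app]⟩
  -- the orbits have length 5
  have h5 : ∀ y, (orbF Q y).card = 5 := by
    intro y
    obtain ⟨j, hj⟩ := hQ5.card_orbit y
    rw [← card_orbF] at hj
    have h10 : (orbF Q y).card ≤ 10 := (Finset.card_le_univ _).trans (by rw [Fintype.card_fin])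
    have hj2 : j < 2 := by
      by_contra hlt
      have : 5 ^ 2 ≤ 5 ^ j := Nat.pow_le_pow_right (by norm_num) (by omega)
      omega
    interval_cases j
    · exfalso
      have h1 : orbF Q y = {y} := by
        rw [Finset.eq_singleton_iff_unique_mem]
        refine ⟨hself Q y, fun z hz => ?_⟩
        have h2 : (orbF Q y).card ≤ 1 := by rw [hj]; norm_num
        exact Finset.card_le_one.mp h2 z hz y (hself Q y)
      have h2 := card_dvd_of_fix (n := 10) (Q := Q) (F := {y}) (by
        intro q hq z hz
        rw [Finset.mem_singleton] at hz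
        subst hz
        have h3 : q z ∈ orbF Q z := mem_orbF.mpr ⟨q, hq, rfl⟩
        rw [h1, Finset.mem_singleton] at h3
        exact h3)
      rw [hQ, Finset.card_singleton, show Nat.factorial (10 - 1) = 362880 by decide +kernel] at h2
      norm_num at h2
    · rw [hj]; norm_num
  have hR : ∀ y : Fin 10, Nat.card (Q ⊓ MulAction.stabilizer (Perm (Fin 10)) y : Subgroup (Perm (Fin 10))) = 5 := by
    intro y
    have h1 := orb Q y
    rw [h5, hQ] at h1
    omega
  have hRz : ∀ y z : Fin 10, z ∈ orbF Q y →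
      Q ⊓ MulAction.stabilizer (Perm (Fin 10)) y = Q ⊓ MulAction.stabilizer (Perm (Fin 10)) z := by
    intro y z hz
    apply Subgroup.eq_of_le_of_card_ge
    · intro r hr
      obtain ⟨q, hq, rfl⟩ := mem_orbF.mp hz
      refine ⟨hr.1, ?_⟩
      change r (q y) = q y
      have h1 : r y = y := hr.2
      rw [← Perm.mul_apply, hcomm r hr.1 q hq, Perm.mul_apply, h1]
    · rw [hR, hR]
  have hg3 : g ^ 3 = 1 := by rw [← hg]; exact pow_orderOf_eq_one g
  -- `g` fixes the orbits
  have hgO : ∀ y, g y ∈ orbF Q y := by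
    intro y
    by_contra hcon
    have hdisj : Disjoint (orbF Q y) (orbF Q (g y)) := by
      rw [Finset.disjoint_left]
      intro z hz hz'
      apply hcon
      rw [← horb y z hz, horb (g y) z hz']
      exact hself Q _
    have hun : orbF Q y ∪ orbF Q (g y) = Finset.univ := by
      apply Finset.eq_univ_of_card
      rw [Finset.card_union_of_disjoint hdisj, h5, h5, Fintype.card_fin]
    have h1 : g (g y) ∈ orbF Q y ∪ orbF Q (g y) := by
      rw [hun]
      exact Finset.mem_univ _
    rcases Finset.mem_union.mp h1 with h2 | h2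
    · obtain ⟨q, hq, hqy⟩ := mem_orbF.mp h2
      have h3 : y ∈ orbF Q (g y) := by
        refine mem_orbF.mpr ⟨g * q * g⁻¹, (mem_normalizer_iff.mp hgQ q).mp hq, ?_⟩
        rw [Perm.mul_apply, inv_app, Perm.mul_apply, hqy]
        have h4 := congrArg (fun σ : Perm (Fin 10) => σ y) hg3
        exact h4
      exact hcon (by rw [horb _ _ h3]; exact hself Q _)
    · obtain ⟨q, hq, hqy⟩ := mem_orbF.mp h2
      apply hcon
      refine mem_orbF.mpr ⟨g⁻¹ * q * g, ?_, ?_⟩
      · rw [mem_normalizer_iff.mp hgQ]
        have : g * (g⁻¹ * q * g) * g⁻¹ = q := by group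
        rw [this]
        exact hq
      · rw [Perm.mul_apply, Perm.mul_apply, hqy, inv_app]
  -- `g` centralizes the stabilizers
  have hgR : ∀ y : Fin 10, ∀ r ∈ Q ⊓ MulAction.stabilizer (Perm (Fin 10)) y, g * r = r * g := by
    intro y r hr
    have hn : g ∈ normalizer ((Q ⊓ MulAction.stabilizer (Perm (Fin 10)) y : Subgroup (Perm (Fin 10))) :
        Set (Perm (Fin 10))) := by
      have key : ∀ u ∈ Q ⊓ MulAction.stabilizer (Perm (Fin 10)) y,
          g * u * g⁻¹ ∈ Q ⊓ MulAction.stabilizer (Perm (Fin 10)) y := by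
        intro u hu
        rw [hRz y (g y) (hgO y)]
        refine ⟨(mem_normalizer_iff.mp hgQ u).mp hu.1, ?_⟩
        change g (u (g⁻¹ (g y))) = g y
        have h1 : u y = y := hu.2
        rw [inv_app, h1]
      have h2 : (Q ⊓ MulAction.stabilizer (Perm (Fin 10)) y).map (MulAut.conj g).toMonoidHom =
          Q ⊓ MulAction.stabilizer (Perm (Fin 10)) y := by
        apply Subgroup.eq_of_le_of_card_ge
        · rintro _ ⟨u, hu, rfl⟩
          exact key u hu
        · exact (Nat.card_congr ((Q ⊓ MulAction.stabilizer (Perm (Fin 10)) y).equivMapOfInjective _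
            (MulAut.conj g).injective).toEquiv).le
      rw [mem_normalizer_iff]
      intro u
      refine ⟨key u, fun hu => ?_⟩
      rw [← h2] at hu
      obtain ⟨v, hv, hvu⟩ := hu
      have h3 : v = u := (MulAut.conj g).injective hvu
      rw [← h3]
      exact hv
    obtain ⟨b, hb, hc, hd⟩ := fixed_modEq (p := 3) (t := 5) (a := 1) (by norm_num) (by norm_num)
      (P := zpowers g) (IsPGroup.of_card (n := 1) (by rw [Nat.card_zpowers, hg, pow_one])) (by rw [hR, pow_one])
      (zpowers_le.mpr hn)
    have hb1 : b = 1 := by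
      interval_cases b
      · norm_num at hd
      · rfl
    subst hb1
    have h3 : Q ⊓ MulAction.stabilizer (Perm (Fin 10)) y ⊓ centralizer (zpowers g : Set (Perm (Fin 10))) =
        Q ⊓ MulAction.stabilizer (Perm (Fin 10)) y := by
      apply Subgroup.eq_of_le_of_card_ge inf_le_left
      rw [hc, hR, pow_one]
    rw [← h3] at hr
    exact mem_centralizer_iff.mp hr.2 g (mem_zpowers g)
  -- `g` fixes all points
  have hfix : ∀ y, g y = y := by
    intro y
    obtain ⟨z, hz⟩ : ∃ z, z ∉ orbF Q y := by
      by_contra hcon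
      push Not at hcon
      have h1 := Finset.card_le_card (fun z _ => hcon z : (Finset.univ : Finset (Fin 10)) ⊆ orbF Q y)
      rw [h5, Finset.card_univ, Fintype.card_fin] at h1
      omega
    have hdisj : Disjoint (orbF Q y) (orbF Q z) := by
      rw [Finset.disjoint_left]
      intro w hw hw'
      apply hz
      rw [← horb y w hw, horb z w hw']
      exact hself Q _
    have hun : orbF Q y ∪ orbF Q z = Finset.univ := by
      apply Finset.eq_univ_of_card
      rw [Finset.card_union_of_disjoint hdisj, h5, h5, Fintype.card_fin]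
    -- a fixed point of `g` in the orbit of `y`
    have hiff : ∀ x, g x ∈ orbF Q y ↔ x ∈ orbF Q y := by
      intro x
      have h1 := horb x (g x) (hgO x)
      constructor
      · intro h
        have h2 := horb y _ h
        rw [← h2, h1]
        exact hself Q x
      · intro h
        rw [← horb y x h]
        exact hgO x
    obtain ⟨w, hw⟩ := exists_fixed_point_of_prime (p := 3) (n := 1) (α := {x // x ∈ orbF Q y})
      (by rw [Fintype.card_coe, h5]; norm_num) (σ := g.subtypePerm hiff) (by
        rw [pow_one]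
        ext x
        have h1 : ((g.subtypePerm hiff) ^ 3) x = ⟨(g ^ 3) x, by rw [hg3]; exact x.2⟩ := rfl
        rw [h1]
        change ((g ^ 3) (x : Fin 10) : Fin 10).val = (x : Fin 10).val
        rw [hg3]
        rfl)
    have hgw : g w = w := congrArg Subtype.val hw
    -- the stabilizer of `z` is transitive on the orbit
    have h1 : ∃ r ∈ Q ⊓ MulAction.stabilizer (Perm (Fin 10)) z, r w ≠ w := by
      by_contra hcon
      push Not at hcon
      have h2 : Q ⊓ MulAction.stabilizer (Perm (Fin 10)) z = Q ⊓ MulAction.stabilizer (Perm (Fin 10)) (w : Fin 10) := by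
        apply Subgroup.eq_of_le_of_card_ge
        · intro r hr
          exact ⟨hr.1, hcon r hr⟩
        · rw [hR, hR]
      have h3 : ∀ r ∈ Q ⊓ MulAction.stabilizer (Perm (Fin 10)) z, r = 1 := by
        intro r hr
        ext x
        have h4 : x ∈ orbF Q y ∪ orbF Q z := by rw [hun]; exact Finset.mem_univ _
        rcases Finset.mem_union.mp h4 with h4 | h4
        · rw [← horb y w w.2] at h4
          have h5 := hRz w x h4
          rw [h2, h5] at hr
          exact congrArg Fin.val hr.2
        · rw [hRz z x h4] at hr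
          exact congrArg Fin.val hr.2
      have h4 : Q ⊓ MulAction.stabilizer (Perm (Fin 10)) z = ⊥ := by
        rw [eq_bot_iff]
        intro r hr
        exact mem_bot.mpr (h3 r hr)
      have h5 := hR z
      rw [h4, Subgroup.card_bot] at h5
      omega
    obtain ⟨r, hr, hrw⟩ := h1
    have h2 : orbF (Q ⊓ MulAction.stabilizer (Perm (Fin 10)) z) w = orbF Q y := by
      apply Finset.eq_of_subset_of_card_le
      · intro x hx
        obtain ⟨u, hu, rfl⟩ := mem_orbF.mp hx
        exact (Finset.ext_iff.mp (horb y w w.2) _).mp (mem_orbF.mpr ⟨u, hu.1, rfl⟩)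
      · have hRs : IsPGroup 5 (Q ⊓ MulAction.stabilizer (Perm (Fin 10)) z : Subgroup (Perm (Fin 10))) :=
          hQ5.to_le inf_le_left
        obtain ⟨j, hj⟩ := hRs.card_orbit (w : Fin 10)
        rw [← card_orbF] at hj
        have hj0 : j ≠ 0 := by
          rintro rfl
          rw [pow_zero] at hj
          exact hrw (Finset.card_le_one.mp hj.le (r w) (mem_orbF.mpr ⟨r, hr, rfl⟩) w (hself _ _))
        rw [h5, hj]
        calc 5 = 5 ^ 1 := rfl
          _ ≤ 5 ^ j := Nat.pow_le_pow_right (by norm_num) (by omega)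
    have h3 : y ∈ orbF (Q ⊓ MulAction.stabilizer (Perm (Fin 10)) z) w := by
      rw [h2]
      exact hself Q y
    obtain ⟨u, hu, huy⟩ := mem_orbF.mp h3
    rw [← huy, ← Perm.mul_apply, hgR z u hu, Perm.mul_apply, hgw]
  have h1 : g = 1 := by
    ext y
    rw [hfix y]
    rfl
  rw [h1, orderOf_one] at hg
  omega

/-- the normalizer of a Sylow 5-subgroup of `A_10` has order prime to 3 -/
theorem not_three_dvd [Fact (Nat.Prime 5)] (Q : Sylow 5 (alternatingGroup (Fin 10))) :
    ¬ 3 ∣ Nat.card (normalizer ((Q : Subgroup (alternatingGroup (Fin 10))) : Set (alternatingGroup (Fin 10)))) := by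
  intro hd
  have : Fact (Nat.Prime 3) := ⟨by norm_num⟩
  obtain ⟨g, hg⟩ := exists_prime_orderOf_dvd_card' 3 hd
  have hA := card_alternating (n := 10) (by norm_num)
  rw [show Nat.factorial 10 = 3628800 by decide +kernel] at hA
  have hQ : Nat.card (Q : Subgroup (alternatingGroup (Fin 10))) = 5 ^ 2 := by
    rw [Q.card_eq_multiplicity]
    congr 1
    have h1 : Nat.card (alternatingGroup (Fin 10)) = 1814400 := by omega
    rw [h1]
    apply Nat.le_antisymm
    · by_contra hlt
      have h2 : 5 ^ 3 ∣ 1814400 :=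
        ((show Nat.Prime 5 by norm_num).pow_dvd_iff_le_factorization (by norm_num)).mpr (by omega)
      norm_num at h2
    · exact ((show Nat.Prime 5 by norm_num).pow_dvd_iff_le_factorization (by norm_num)).mp (by norm_num)
  refine core10 (Q := (Q : Subgroup (alternatingGroup (Fin 10))).map (alternatingGroup (Fin 10)).subtype)
      (g := ((g : alternatingGroup (Fin 10)) : Perm (Fin 10))) ?_ ?_ ?_
  · rw [← Nat.card_congr ((Q : Subgroup (alternatingGroup (Fin 10))).equivMapOfInjective
      (alternatingGroup (Fin 10)).subtype (alternatingGroup (Fin 10)).subtype_injective).toEquiv]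
    exact hQ
  · rw [Subgroup.orderOf_coe, Subgroup.orderOf_coe, hg]
  · rw [mem_normalizer_iff]
    intro u
    constructor
    · rintro ⟨v, hv, rfl⟩
      exact ⟨g * v * g⁻¹, (mem_normalizer_iff.mp g.2 v).mp hv, rfl⟩
    · rintro ⟨v, hv, hvu⟩
      refine ⟨(g : alternatingGroup (Fin 10))⁻¹ * v * g, ?_, ?_⟩
      · rw [SetLike.mem_coe, mem_normalizer_iff.mp g.2]
        have : (g : alternatingGroup (Fin 10)) * ((g : alternatingGroup (Fin 10))⁻¹ * v * g) *
          (g : alternatingGroup (Fin 10))⁻¹ = v := by group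
        rw [this]
        exact hv
      · rw [map_mul, map_mul, hvu, map_inv]
        change ((g : alternatingGroup (Fin 10)) : Perm (Fin 10))⁻¹ * (((g : alternatingGroup (Fin 10)) : Perm (Fin 10)) *
          u * ((g : alternatingGroup (Fin 10)) : Perm (Fin 10))⁻¹) * ((g : alternatingGroup (Fin 10)) : Perm (Fin 10)) = u
        group

variable {G : Type u} [Group G] [Finite G]

theorem card_sylow_mul {s : ℕ} [Fact s.Prime] (P : Sylow s G) :
    Nat.card (Sylow s G) * Nat.card (normalizer ((P : Subgroup G) : Set G)) = Nat.card G := by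
  have h2 : Nat.card (Sylow s G) = (normalizer ((P : Subgroup G) : Set G)).index := P.card_eq_index_normalizer
  rw [h2, mul_comm]
  exact Subgroup.card_mul_index _

/-- three times a simple group -/
theorem three_dvd (N : Subgroup G) [N.Normal] (M : Subgroup (G ⧸ N)) [hMn : M.Normal] [hM : IsSimpleGroup M]
    (h3 : Nat.card N * M.index = 3) (hbig : 6 < Nat.card G) {s : ℕ} [hs : Fact s.Prime] (hsG : s ∣ Nat.card G)
    (P : Sylow s G) : 3 ∣ Nat.card (normalizer ((P : Subgroup G) : Set G)) := by
  by_cases hs3 : s = 3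
  · subst hs3
    exact (P.dvd_card_of_dvd_card hsG).trans (Subgroup.card_dvd_of_le Subgroup.le_normalizer)
  have hp3 : Nat.Prime 3 := by norm_num
  have hN3 : Nat.card N = 1 ∨ Nat.card N = 3 := (Nat.dvd_prime hp3).mp (Dvd.intro _ h3)
  rcases hN3 with hN | hN
  · -- `N` trivial, `M` of index 3
    rw [hN, one_mul] at h3
    have h1 : Nat.card (Sylow s G) = Nat.card (Sylow s M) := by
      have hr1 : (normalizer ((P : Subgroup G) : Set G)).relIndex N = 1 := by
        rw [Subgroup.card_eq_one.mp hN, relIndex_bot_right]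
      rw [card_sylow_quot N P, hr1, one_mul]
      apply card_sylow_normal M
      rw [h3]
      intro hd
      exact hs3 ((Nat.prime_dvd_prime_iff_eq hs.out hp3).mp hd)
    have h2 : Nat.card (Sylow s M) ∣ Nat.card M := card_sylow_dvd s
    obtain ⟨c, hc⟩ := h2
    have h4 := card_sylow_mul P
    rw [card_eq' N M, hN, one_mul, h3, hc, h1] at h4
    have h5 : 0 < Nat.card (Sylow s M) := Nat.card_pos
    have h6 : Nat.card (normalizer ((P : Subgroup G) : Set G)) = 3 * c := by
      apply Nat.eq_of_mul_eq_mul_left h5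
      rw [h4]
      ring
    exact ⟨c, h6⟩
  · -- `N` of order 3, central
    have hM1 : M.index = 1 := by
      rw [hN] at h3
      omega
    have hMtop : M = ⊤ := Subgroup.index_eq_one.mp hM1
    have : Fact (Nat.Prime 3) := ⟨hp3⟩
    have hcyc : IsCyclic N := isCyclic_of_prime_card hN
    have hNC : N ≤ centralizer (N : Set G) := by
      intro x hx
      rw [mem_centralizer_iff]
      intro y hy
      exact congrArg Subtype.val ((IsCyclic.isMulCommutative (α := N)).is_comm.comm (⟨y, hy⟩ : N) ⟨x, hx⟩)
    have hC : centralizer (N : Set G) = ⊤ := by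
      have hCn : (centralizer (N : Set G)).Normal := Subgroup.normal_centralizer
      have hCm : ((centralizer (N : Set G)).map (QuotientGroup.mk' N)).Normal :=
        hCn.map _ (QuotientGroup.mk'_surjective N)
      have hsimple : IsSimpleGroup (G ⧸ N) := by
        subst hMtop
        exact (Subgroup.topEquiv (G := G ⧸ N)).symm.isSimpleGroup
      rcases hCm.eq_bot_or_eq_top with h1 | h1
      · exfalso
        rw [Subgroup.map_eq_bot_iff, QuotientGroup.ker_mk'] at h1
        have h2 : Nat.card (centralizer (N : Set G)) ∣ 3 := by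
          rw [← hN]
          exact Subgroup.card_dvd_of_le h1
        have h4 := card_normalizer_dvd hp3 hN
        rw [Subgroup.normalizer_eq_top, Subgroup.card_top] at h4
        have h5 := Nat.le_of_dvd (by norm_num) (h4.trans (Nat.mul_dvd_mul_right h2 _))
        omega
      · have h2 : (centralizer (N : Set G)) ⊔ N = ⊤ := by
          have h3 := congrArg (Subgroup.comap (QuotientGroup.mk' N)) h1
          rwa [Subgroup.comap_map_eq, QuotientGroup.ker_mk', Subgroup.comap_top] at h3
        rwa [sup_eq_left.mpr hNC] at h2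
    have h1 : N ≤ normalizer ((P : Subgroup G) : Set G) := by
      refine le_trans ?_ (centralizer_le_normalizer _)
      rw [le_centralizer_iff, hC]
      exact le_top
    rw [← hN]
    exact Subgroup.card_dvd_of_le h1

theorem case10 (T : OrderTable.{u}) (h : Hyp2 G 10)
    (hcl : ∀ (S : Type u) [Group S] [Finite S] [IsSimpleGroup S], IsKnownSimple' S)
    (hx : ∃ (s : ℕ) (_ : Fact s.Prime), s ∣ Nat.card G ∧ ∃ P : Sylow s G,
      ¬ 3 ∣ Nat.card (normalizer ((P : Subgroup G) : Set G))) :
    Nonempty (G ≃* alternatingGroup (Fin 10)) := by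
  have : Fact (Nat.Prime 7) := ⟨by norm_num⟩
  have hG : Nat.card G = 1814400 := by
    have h0 : 2 * Nat.card G = 3628800 := h.card.trans (by decide +kernel)
    omega
  have hs : Nat.card (Sylow 7 G) = 14400 := by
    have h0 : Nat.card (Sylow 7 G) * 252 = 3628800 := by
      have h1 := h.syl 7 (by norm_num) (by norm_num) (by norm_num) (by norm_num)
      rw [show Nat.factorial 10 = 3628800 by decide +kernel, show 7 * (7 - 1) * Nat.factorial (10 - 7) = 252 by decide +kernel] at h1
      exact h1
    omega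
  have h3 : ∀ c, 1 ≤ c → c ≤ 4 → ¬ 7 ∣ 3 ^ c - 1 := by intro c h1 h2; interval_cases c <;> norm_num
  have h5 : ∀ c, 1 ≤ c → c ≤ 2 → ¬ 7 ∣ 5 ^ c - 1 := by intro c h1 h2; interval_cases c <;> norm_num
  obtain ⟨N, hN, M, hM, hsimple, hpM, hna, hcent, hMG, key⟩ := small_data h (p := 7) (by norm_num) (by norm_num)
    (by norm_num) (q := 3) (B := 4) (by norm_num) (by norm_num) (by rw [hs]; norm_num) (by rw [hG]; norm_num) h3
  have k3 := key 3 2 4 (by norm_num) (by norm_num) (by rw [hs]; norm_num) (by rw [hG]; norm_num) h3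
  have k5 := key 5 2 2 (by norm_num) (by norm_num) (by rw [hs]; norm_num) (by rw [hG]; norm_num) h5
  have hD : 1575 ∣ Nat.card M := (mul_dvd_of (a := 63) (b := 5 ^ 2) (c := 1575) (by norm_num) (by norm_num)
    (mul_dvd_of (a := 7) (b := 3 ^ 2) (c := 63) (by norm_num) (by norm_num) hpM k3) k5)
  rw [hG] at hMG
  obtain ⟨g, hg, hr, ho⟩ := of_chkS T (hcl M) hna chk10 hMG hD
  simp only [List.mem_cons, List.not_mem_nil, or_false] at hg
  rcases hg with rfl | rfl
  · obtain ⟨e⟩ := hr
    obtain ⟨f⟩ := iso_of_card N M (by rw [ho, hG]; decide +kernel)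
    exact ⟨f.trans e⟩
  · exfalso
    obtain ⟨s, hsf, hsG, P, hP⟩ := hx
    refine hP (three_dvd N M ?_ (by rw [hG]; norm_num) hsG P)
    have hMJ : Nat.card M = 604800 := by rw [ho]; decide +kernel
    have hc := card_eq' N M
    rw [hG, hMJ] at hc
    apply Nat.eq_of_mul_eq_mul_left (show 0 < 604800 by norm_num)
    calc 604800 * (Nat.card N * M.index) = Nat.card N * (604800 * M.index) := by ring
      _ = 1814400 := hc.symm
      _ = 604800 * 3 := by norm_num

end Cfsg.Agent.H428.SylNorm
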